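import Groth.Agent.GLinShLib.StabLocus
import Groth.Agent.GITAffLib.ProperQuot

/-!
# The properly stable locus and properness of the action on it
-/

set_option autoImplicit false
set_option backward.isDefEq.respectTransparency false
set_option synthInstance.maxHeartbeats 400000
set_option maxHeartbeats 1000000
set_option linter.style.haveILetI false

universe u

noncomputable section

open CategoryTheory CategoryTheory.Limits MonoidalCategory CartesianMonoidalCategory AlgebraicGeometry Topology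
open CoactBr
open scoped MonObj

namespace GLinShLib

variable {k : Type u} [Field k] {G X : Over (Spec (CommRingCat.of k))} [GrpObj G] {a : AlgGrp.Action G X}

theorem exists_geomPoint {Z : Over (Spec (CommRingCat.of k))} (p : Z.left) :
    ∃ (Ω : Type u) (_ : Field Ω) (_ : IsAlgClosed Ω) (T : Over (Spec (CommRingCat.of k)))
      (_ : T.left ≅ Spec (CommRingCat.of Ω)) (f : T ⟶ Z) (t : T.left),
      f.left t = p ∧ Set.range f.left = {p} := by
  let K := AlgebraicClosure (Z.left.residueField p)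
  let e : Spec (CommRingCat.of K) ⟶ Z.left :=
    Spec.map (CommRingCat.ofHom (algebraMap (Z.left.residueField p) K)) ≫ Z.left.fromSpecResidueField p
  have he : ∀ x, e x = p := fun x => by
    rw [Scheme.Hom.comp_apply]; exact Scheme.fromSpecResidueField_apply p _
  refine ⟨K, inferInstance, inferInstance, Over.mk (e ≫ Z.hom), Iso.refl _, Over.homMk e rfl,
    IsLocalRing.closedPoint K, he _, ?_⟩
  refine Set.Subset.antisymm ?_ ?_
  · rintro _ ⟨x, rfl⟩
    exact he x
  · rintro _ rfl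
    exact ⟨IsLocalRing.closedPoint K, he _⟩

variable [LocallyOfFiniteType G.hom] [QuasiCompact G.hom] [LocallyOfFiniteType X.hom]

theorem quasiSeparated_hom : QuasiSeparated X.hom := by
  haveI := LocallyOfFiniteType.isLocallyNoetherian X.hom
  exact (quasiSeparated_iff_quasiSeparatedSpace X.hom).2 inferInstance

variable [LocallyOfFiniteType (GLinSh.stabTo a (𝟙 X))] (B : GLinSh.LinBun G a)

/-- The open underlying the properly stable locus. -/
def psOpen : X.left.Opens :=
  (⨆ i : {i : (n : ℕ) × Γ(B.V.left, ⊤) // 1 ≤ i.1 ∧ B.IsInvSection i.1 i.2 ∧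
    ∀ hf : GLinSh.HasWeight B.atlas.chart i.1 i.2, IsAffineOpen (nv hf) ∧ GLinSh.ClosedOrbitsOn a (nv hf)},
      nv i.2.2.1.1) ⊓ finLocus a

theorem coe_psOpen : (psOpen B : Set X.left) = B.psLocus := by
  haveI := quasiSeparated_hom (X := X)
  ext x
  show x ∈ psOpen B ↔ _
  rw [psOpen, TopologicalSpace.Opens.mem_inf, TopologicalSpace.Opens.mem_iSup]
  constructor
  · rintro ⟨⟨⟨⟨n, f⟩, hn, hf, hU⟩, hx⟩, hfin⟩
    refine ⟨⟨n, f, hn, hf, hx, nv hf.1, rfl, (hU hf.1).1, (hU hf.1).2⟩, fun Ω _ _ T e g hg => ?_⟩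
    let t : T.left := e.inv (IsLocalRing.closedPoint Ω)
    have ht : g.left t = x := Set.mem_singleton_iff.1 (hg ▸ ⟨t, rfl⟩)
    exact (isFinite_stabTo_iff a e g t).1.2 (by rw [ht]; exact hfin)
  · rintro ⟨⟨n, f, hn, hf, hx, U, hU, hUa, hUc⟩, hst⟩
    obtain rfl : U = nv hf.1 := TopologicalSpace.Opens.ext hU
    refine ⟨⟨⟨⟨n, f⟩, hn, hf, fun _ => ⟨hUa, hUc⟩⟩, hx⟩, ?_⟩
    obtain ⟨Ω, _, _, T, e, g, t, ht, hr⟩ := exists_geomPoint x
    rw [← ht]
    exact (isFinite_stabTo_iff a e g t).1.1 (hst Ω T e g hr)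

/-- Conjugation of stabilisers. -/
theorem finite_fixPts_act {T : Over (Spec (CommRingCat.of k))} (g : T ⟶ G) (f : T ⟶ X)
    (h : Finite (GITAffLib.FixPts a f)) : Finite (GITAffLib.FixPts a (lift g f ≫ a.act)) := by
  haveI := h
  let E : GITAffLib.FixPts a (lift g f ≫ a.act) → GITAffLib.FixPts a f := fun h' => ⟨g⁻¹ * (h'.1 * g), by
    rw [GITAffLib.lift_mul_act, GITAffLib.lift_mul_act, h'.2, ← GITAffLib.lift_mul_act, inv_mul_cancel,
      GITAffLib.lift_one_act]⟩
  refine Finite.of_injective E fun h₁ h₂ he => Subtype.ext ?_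
  simpa [E] using congrArg Subtype.val he

theorem isInvOpen_psOpen : IsInvOpen a (psOpen B) := by
  haveI := quasiSeparated_hom (X := X)
  refine isInvOpen_iff fun p hp => ?_
  rw [psOpen, TopologicalSpace.Opens.mem_inf, TopologicalSpace.Opens.mem_iSup] at hp ⊢
  obtain ⟨⟨⟨⟨n, f⟩, hn, hf, hU⟩, hx⟩, hfin⟩ := hp
  refine ⟨⟨⟨⟨n, f⟩, hn, hf, hU⟩, (isInvOpen_nv hf).ge hx⟩, ?_⟩
  obtain ⟨Ω, _, _, T, e, P, t, ht, -⟩ := exists_geomPoint (Z := G ⊗ X) p
  have h0 : (P ≫ snd G X).left t = (snd G X).left p := by rw [← ht]; rfl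
  have h1 : IsFinite (GLinSh.stabTo a (P ≫ snd G X)) :=
    (isFinite_stabTo_iff a e _ t).1.2 (by rw [h0]; exact hfin)
  have h2 := finite_fixPts_act (P ≫ fst G X) (P ≫ snd G X) ((GITAffLib.finite_stab_iff a e _).1 h1)
  have h3 : lift (P ≫ fst G X) (P ≫ snd G X) ≫ a.act = P ≫ a.act := by
    rw [← comp_lift, lift_fst_snd, Category.comp_id]
  rw [h3] at h2
  have h4 := (isFinite_stabTo_iff a e (P ≫ a.act) t).1.1 ((GITAffLib.finite_stab_iff a e _).2 h2)
  rwa [show (P ≫ a.act).left t = a.act.left p from by rw [← ht]; rfl] at h4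

/-- Quasi-finiteness of `Ψ` on an invariant open with finite stabilisers. -/
theorem locallyQuasiFinite_psi_restrict {U : X.left.Opens} (hU : U ≤ finLocus a)
    (aU : AlgGrp.Action G (openObj U)) (he : aU.act ≫ openHom U = (G ◁ openHom U) ≫ a.act) :
    LocallyQuasiFinite (GIT.psi aU (𝟙 (openObj U))).left := by
  haveI := quasiSeparated_hom (X := X)
  haveI : LocallyOfFiniteType (openObj U).hom := inferInstanceAs (LocallyOfFiniteType (U.ι ≫ X.hom))
  haveI := quasiSeparated_hom (X := openObj U)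
  haveI := (locallyOfFiniteType_stabTo aU (𝟙 (openObj U))).1
  haveI := (locallyOfFiniteType_stabTo aU (𝟙 (openObj U))).2
  haveI : LocallyOfFiniteType (snd G (openObj U)).left := by
    rw [Over.snd_left]; exact MorphismProperty.pullback_snd _ _ inferInstance
  haveI : QuasiCompact (snd G (openObj U)).left := by
    rw [Over.snd_left]; exact MorphismProperty.pullback_snd _ _ inferInstance
  haveI : LocallyOfFiniteType (GIT.psi aU (𝟙 (openObj U))).left := by
    haveI : LocallyOfFiniteType ((GIT.psi aU (𝟙 _)).left ≫ (snd (openObj U) (openObj U)).left) := by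
      rw [← Over.comp_left, GITAffLib.psi_snd]; infer_instance
    exact locallyOfFiniteType_of_comp _ (snd (openObj U) (openObj U)).left
  haveI : QuasiCompact (GIT.psi aU (𝟙 (openObj U))).left := by
    haveI : QuasiSeparated (snd (openObj U) (openObj U)).left := by
      rw [Over.snd_left]; exact MorphismProperty.pullback_snd _ _ inferInstance
    haveI : QuasiCompact ((GIT.psi aU (𝟙 _)).left ≫ (snd (openObj U) (openObj U)).left) := by
      rw [← Over.comp_left, GITAffLib.psi_snd]; infer_instance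
    exact QuasiCompact.of_comp _ (snd (openObj U) (openObj U)).left
  refine GITAffLib.locallyQuasiFinite_psi aU ?_
  set j := openHom U
  have e1 : GIT.psi aU (𝟙 (openObj U)) ≫ (j ▷ openObj U) = GIT.psi a j := by
    refine CartesianMonoidalCategory.hom_ext _ _ ?_ ?_ <;> simp [GIT.psi, he]
  have e2 : lift (𝟙 (openObj U)) (𝟙 (openObj U)) ≫ (j ▷ openObj U) = lift j (𝟙 (openObj U)) := by
    refine CartesianMonoidalCategory.hom_ext _ _ ?_ ?_ <;> simp
  let m : GLinSh.stab aU (𝟙 (openObj U)) ⟶ GLinSh.stab a j :=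
    pullback.map _ _ _ _ (𝟙 _) (𝟙 _) (j ▷ openObj U).left
      (by rw [Category.id_comp, ← Over.comp_left, e1]) (by rw [Category.id_comp, ← Over.comp_left, e2])
  have hm : Function.Injective m := by
    haveI : Mono m := ⟨fun u v huv => pullback.hom_ext
      (by simpa [m] using congrArg (· ≫ pullback.fst _ _) huv)
      (by simpa [m] using congrArg (· ≫ pullback.snd _ _) huv)⟩
    exact GITAffLib.injective_of_mono m
  obtain ⟨r, hr, -⟩ := isPullback_stab a j
  have hri : Function.Injective r := by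
    haveI : IsOpenImmersion r := MorphismProperty.of_isPullback hr.flip (show IsOpenImmersion U.ι from inferInstance)
    exact r.isOpenEmbedding.injective
  refine LocallyQuasiFinite.of_finite_preimage_singleton (GLinSh.stabTo aU (𝟙 (openObj U))) fun x => ?_
  have hfin : (GLinSh.stabTo a (𝟙 X) ⁻¹' {U.ι x}).Finite := by
    obtain ⟨Ω, _, _, T, e, g, t, ht, -⟩ := exists_geomPoint (U.ι x)
    rw [← ht]
    exact (isFinite_stabTo_iff a e g t).2 ((isFinite_stabTo_iff a e g t).1.2 (by rw [ht]; exact hU x.2))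
  refine (hfin.preimage (hri.comp hm).injOn).subset fun z hz => ?_
  show GLinSh.stabTo a (𝟙 X) (r (m z)) = U.ι x
  rw [← Scheme.Hom.comp_apply, hr.w, Scheme.Hom.comp_apply, ← Scheme.Hom.comp_apply m,
    show m ≫ GLinSh.stabTo a j = GLinSh.stabTo aU (𝟙 (openObj U)) from
      (pullback.lift_snd _ _ _).trans (Category.comp_id _)]
  exact congrArg _ (Set.mem_singleton_iff.1 hz)

section Affine

variable {A : Type u} [CommRing A] [HopfAlgebra k A] {w : sp k A ⟶ G} [IsMonHom w] [IsIso w] {β : A →ₗ[k] k}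

omit [LocallyOfFiniteType G.hom] [QuasiCompact G.hom] [LocallyOfFiniteType (GLinSh.stabTo a (𝟙 X))] in
include w in
/-- Properness on an invariant open of an affine scheme with closed action. -/
theorem isProper_psi_invariant (hβ : ComodLib.IsInvariant β) (h1 : β 1 = 1) [Algebra.Smooth k A]
    [IsAffine X.left] (hcl : GIT.IsClosedAction a) {X' : Over (Spec (CommRingCat.of k))} (j : X' ⟶ X)
    [IsOpenImmersion j.left] (a' : AlgGrp.Action G X') (he : a'.act ≫ j = (G ◁ j) ≫ a.act)
    (hinv : IsInvOpen a j.left.opensRange) [LocallyQuasiFinite (GIT.psi a' (𝟙 X')).left] :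
    IsProper (GIT.psi a' (𝟙 X')).left := by
  obtain ⟨Y, φ, hY, hi, hgood⟩ := GITAffLib.exists_isGood w hβ a
  haveI := hY
  haveI : LocallyOfFiniteType X'.hom := by rw [← Over.w j]; infer_instance
  set U := j.left.opensRange
  have horb := GITAffLib.psiY_surjective_of_isClosedAction hβ h1 hgood hi hcl
  have hP := hgood.props w hβ h1
  let V : Y.left.Opens := ⟨(φ.left '' (U : Set X.left)ᶜ)ᶜ,
    (hP.closed _ U.isOpen.isClosed_compl fun p hp h => hp (hinv.le h)).isOpen_compl⟩
  have hV : φ.left ⁻¹ᵁ V = U := by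
    ext x
    refine ⟨fun hx => by_contra fun h => hx ⟨x, h, rfl⟩, fun hx ⟨y, hy, hxy⟩ => hy ?_⟩
    obtain ⟨z, hz1, hz2⟩ := Scheme.Pullback.exists_preimage_pullback (f := φ.left) (g := φ.left) x y hxy.symm
    obtain ⟨p, hp⟩ := horb z
    have e1 : a.act.left p = x := by
      rw [← hz1, ← hp, ← Scheme.Hom.comp_apply, GIT.PsiY, pullback.lift_fst]
    have e2 : (snd G X).left p = y := by
      rw [← hz2, ← hp, ← Scheme.Hom.comp_apply, GIT.PsiY, pullback.lift_snd]
    have : p ∈ a.act.left ⁻¹ᵁ U := by show a.act.left p ∈ U; rw [e1]; exact hx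
    rw [show a.act.left ⁻¹ᵁ U = (snd G X).left ⁻¹ᵁ U from hinv] at this
    rw [← e2]
    exact this
  have hr : Set.range j.left = Set.range (φ.left ⁻¹ᵁ V).ι := by
    rw [Scheme.Opens.range_ι, hV]; rfl
  let ι₀ := IsOpenImmersion.isoOfRangeEq j.left (φ.left ⁻¹ᵁ V).ι hr
  have hι : ι₀.hom ≫ (φ.left ⁻¹ᵁ V).ι = j.left := IsOpenImmersion.lift_fac _ _ _
  let φ' : X' ⟶ openObj V := Over.homMk (ι₀.hom ≫ φ.left ∣_ V) (by
    show (ι₀.hom ≫ φ.left ∣_ V) ≫ V.ι ≫ Y.hom = X'.hom
    rw [Category.assoc, morphismRestrict_ι_assoc, reassoc_of% hι, Over.w φ, Over.w j])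
  have hφ' : φ' ≫ openHom V = j ≫ φ := Over.OverMorphism.ext (by
    show (ι₀.hom ≫ φ.left ∣_ V) ≫ V.ι = j.left ≫ φ.left
    rw [Category.assoc, morphismRestrict_ι, reassoc_of% hι])
  haveI : IsAffineHom φ.left := isAffineHom_of_isAffine _
  haveI : IsAffineHom (φ.left ∣_ V) := MorphismProperty.of_isPullback (isPullback_morphismRestrict φ.left V).flip
    inferInstance
  haveI : IsAffineHom φ'.left := inferInstanceAs (IsAffineHom (ι₀.hom ≫ φ.left ∣_ V))
  haveI : IsAffineHom Y.hom := isAffineHom_of_isAffine _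
  haveI : IsSeparated (openObj V).hom := inferInstanceAs (IsSeparated (V.ι ≫ Y.hom))
  have hi' : GIT.IsInvariant a' φ' := by
    show a'.act ≫ φ' = snd G X' ≫ φ'
    rw [← cancel_mono (openHom V), Category.assoc, Category.assoc, hφ', reassoc_of% he,
      show a.act ≫ φ = snd G X ≫ φ from hi, whiskerLeft_snd_assoc]
  exact GITAffLib.isProper_psi_of_affineHom (w := w) hβ h1 a' φ' hi' (GITAffLib.isClosedAction_restrict hcl j a' he)

end Affine

omit [LocallyOfFiniteType G.hom] [QuasiCompact G.hom] [LocallyOfFiniteType X.hom]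
  [LocallyOfFiniteType (GLinSh.stabTo a (𝟙 X))] in
theorem ratio_res {O O' : X.left.Opens} {n m : ℕ} {f g : Γ(B.V.left, ⊤)} {h : Γ(X.left, O)} (hh : IsRatio O n m f g h)
    (hle : O' ≤ O) {E : B.V.left.Opens} (hE : E ≤ B.V.left.basicOpen f) :
    B.π.left.appLE O' (B.π.left ⁻¹ᵁ O' ⊓ E) inf_le_left (X.left.presheaf.map (homOfLE hle).op h) *
        B.V.left.presheaf.map (homOfLE (le_top : B.π.left ⁻¹ᵁ O' ⊓ E ≤ ⊤)).op f ^ m =
      B.V.left.presheaf.map (homOfLE (le_top : B.π.left ⁻¹ᵁ O' ⊓ E ≤ ⊤)).op g ^ n := by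
  have e := congrArg (B.V.left.presheaf.map
    (homOfLE (inf_le_inf (B.π.left.preimage_mono hle) hE : B.π.left ⁻¹ᵁ O' ⊓ E ≤ _)).op) hh
  rw [map_mul, map_pow, map_pow] at e
  simp only [← ConcreteCategory.comp_apply, ← Functor.map_comp, Scheme.Hom.appLE_map, Scheme.Hom.map_appLE] at e ⊢
  exact e

omit [LocallyOfFiniteType G.hom] [QuasiCompact G.hom] [LocallyOfFiniteType X.hom]
  [LocallyOfFiniteType (GLinSh.stabTo a (𝟙 X))] in
/-- Mutual ratios are inverse to each other. -/
theorem ratio_mul_ratio {n m : ℕ} {f g : Γ(B.V.left, ⊤)} (hf : GLinSh.HasWeight B.atlas.chart n f)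
    (hg : GLinSh.HasWeight B.atlas.chart m g) {hfg : Γ(X.left, nv hf)} {hgf : Γ(X.left, nv hg)}
    (h₁ : IsRatio (nv hf) n m f g hfg) (h₂ : IsRatio (nv hg) m n g f hgf) :
    X.left.presheaf.map (homOfLE (inf_le_left : nv hf ⊓ nv hg ≤ nv hf)).op hfg *
      X.left.presheaf.map (homOfLE (inf_le_right : nv hf ⊓ nv hg ≤ nv hg)).op hgf = 1 := by
  apply appLE_inj (hasWeight_mul hf hg) (nv hf ⊓ nv hg) (nv_mul hf hg).ge
  have hf' : B.V.left.basicOpen (f * g) ≤ B.V.left.basicOpen f := by rw [Scheme.basicOpen_mul]; exact inf_le_left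
  have hg' : B.V.left.basicOpen (f * g) ≤ B.V.left.basicOpen g := by rw [Scheme.basicOpen_mul]; exact inf_le_right
  have k1 := ratio_res B h₁ (inf_le_left : nv hf ⊓ nv hg ≤ nv hf) hf'
  have k2 := ratio_res B h₂ (inf_le_right : nv hf ⊓ nv hg ≤ nv hg) hg'
  rw [map_mul, map_one]
  refine (isUnit_res_basicOpen (f := f) (n := m) _ (inf_le_right.trans hf')).mul_left_inj.1 ?_
  rw [one_mul, mul_right_comm, k1]
  exact (mul_comm _ _).trans k2

end GLinShLib
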