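import Groth.Agent.GLinShLib.Basic
import Groth.Agent.GITAffLib.NormalQuot
import Groth.Agent.GITQuotLib.Univ

/-!
# Invariant sections: invariance of `X_f` and of the ratios; actions on invariant opens
-/

set_option autoImplicit false
set_option backward.isDefEq.respectTransparency false
set_option synthInstance.maxHeartbeats 400000
set_option maxHeartbeats 1000000
set_option linter.style.haveILetI false

universe u

noncomputable section

open CategoryTheory CategoryTheory.Limits MonoidalCategory CartesianMonoidalCategory AlgebraicGeometry Opposite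
  TopologicalSpace
open scoped MonObj

namespace GLinShLib

variable {S : Scheme.{u}} {G X : Over S} [GrpObj G] {a : AlgGrp.Action G X}

/-- An open is invariant: it has the same preimage along the action and the projection. -/
def IsInvOpen (a : AlgGrp.Action G X) (U : X.left.Opens) : Prop :=
  a.act.left ⁻¹ᵁ U = (snd G X).left ⁻¹ᵁ U

theorem isInvOpen_iff {U : X.left.Opens} (h : ∀ p, (snd G X).left p ∈ U → a.act.left p ∈ U) : IsInvOpen a U := by
  ext p
  refine ⟨fun hp => ?_, h p⟩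
  let σ : G ⊗ X ⟶ G ⊗ X := lift (fst G X)⁻¹ a.act
  have h1 : σ ≫ snd G X = a.act := lift_snd _ _
  have h2 : σ ≫ a.act = snd G X := by
    calc σ ≫ a.act = lift (fst G X)⁻¹ (lift (fst G X) (snd G X) ≫ a.act) ≫ a.act := by
          rw [lift_fst_snd, Category.id_comp]
      _ = snd G X := by rw [← GITAffLib.lift_mul_act, inv_mul_cancel, GITAffLib.lift_one_act]
  have := h (σ.left p) (by rw [← Scheme.Hom.comp_apply, ← Over.comp_left, h1]; exact hp)
  rwa [← Scheme.Hom.comp_apply, ← Over.comp_left, h2] at this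

theorem IsInvOpen.inf {U U' : X.left.Opens} (h : IsInvOpen a U) (h' : IsInvOpen a U') : IsInvOpen a (U ⊓ U') := by
  unfold IsInvOpen at *
  rw [Scheme.Hom.preimage_inf, Scheme.Hom.preimage_inf, h, h']

theorem isInvOpen_preimage {Y : Over S} {φ : X ⟶ Y} (hi : GIT.IsInvariant a φ) (V : Y.left.Opens) :
    IsInvOpen a (φ.left ⁻¹ᵁ V) := by
  show (a.act ≫ φ).left ⁻¹ᵁ V = (snd G X ≫ φ).left ⁻¹ᵁ V
  rw [show a.act ≫ φ = snd G X ≫ φ from hi]

/-- Transport of invariance along an equivariant morphism. -/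
theorem IsInvOpen.comap {X' : Over S} {a' : AlgGrp.Action G X'} {j : X' ⟶ X}
    (he : a'.act ≫ j = (G ◁ j) ≫ a.act) {U : X.left.Opens} (h : IsInvOpen a U) :
    IsInvOpen a' (j.left ⁻¹ᵁ U) := by
  show (a'.act ≫ j).left ⁻¹ᵁ U = (snd G X' ≫ j).left ⁻¹ᵁ U
  rw [he, ← whiskerLeft_snd G j, Over.comp_left, Over.comp_left, Scheme.Hom.comp_preimage, Scheme.Hom.comp_preimage,
    show a.act.left ⁻¹ᵁ U = _ from h]

/-- The open as an object over the base. -/
abbrev openObj (U : X.left.Opens) : Over S := Over.mk (U.ι ≫ X.hom)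

/-- Its inclusion. -/
abbrev openHom (U : X.left.Opens) : openObj U ⟶ X := Over.homMk U.ι

instance (U : X.left.Opens) : IsOpenImmersion (openHom U).left := inferInstanceAs (IsOpenImmersion U.ι)

instance (U : X.left.Opens) : Mono (openHom U) :=
  haveI : Mono ((Over.forget S).map (openHom U)) := inferInstanceAs (Mono U.ι)
  (Over.forget S).mono_of_mono_map this

/-- The action on an invariant open. -/
theorem exists_action {U : X.left.Opens} (h : IsInvOpen a U) :
    ∃ aU : AlgGrp.Action G (openObj U), aU.act ≫ openHom U = (G ◁ openHom U) ≫ a.act := by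
  have hr : Set.range ((G ◁ openHom U) ≫ a.act).left ⊆ Set.range U.ι := by
    rintro _ ⟨p, rfl⟩
    rw [Scheme.Opens.range_ι, Over.comp_left, Scheme.Hom.comp_apply]
    show (G ◁ openHom U).left p ∈ a.act.left ⁻¹ᵁ U
    rw [show a.act.left ⁻¹ᵁ U = (snd G X).left ⁻¹ᵁ U from h]
    show ((G ◁ openHom U) ≫ snd G X).left p ∈ U
    rw [whiskerLeft_snd]
    exact ((snd G (openObj U)).left p).2
  let act : G ⊗ openObj U ⟶ openObj U := Over.homMk (IsOpenImmersion.lift U.ι _ hr) (by
    show IsOpenImmersion.lift U.ι _ hr ≫ U.ι ≫ X.hom = _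
    rw [IsOpenImmersion.lift_fac_assoc, Over.w ((G ◁ openHom U) ≫ a.act)])
  have he : act ≫ openHom U = (G ◁ openHom U) ≫ a.act :=
    Over.OverMorphism.ext (IsOpenImmersion.lift_fac _ _ _)
  refine ⟨⟨act, ?_, ?_⟩, he⟩
  · rw [← cancel_mono (openHom U), Category.assoc, he, ← whisker_exchange_assoc, a.one_act, leftUnitor_naturality]
  · rw [← cancel_mono (openHom U), Category.assoc, Category.assoc, Category.assoc, he, ← whisker_exchange_assoc,
      a.mul_act, associator_naturality_right_assoc, ← MonoidalCategory.whiskerLeft_comp_assoc, ← he,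
      MonoidalCategory.whiskerLeft_comp_assoc, he]

variable {B : GLinSh.LinBun G a}

theorem act_preimage_basicOpen {f : Γ(B.V.left, ⊤)} (hi : GLinSh.IsInvFn B.lift f) :
    B.lift.act.left ⁻¹ᵁ B.V.left.basicOpen f = (snd G B.V).left ⁻¹ᵁ B.V.left.basicOpen f := by
  rw [Scheme.preimage_basicOpen, Scheme.preimage_basicOpen]
  exact congrArg (fun r => (G ⊗ B.V).left.basicOpen r) hi

theorem isInvOpen_nv {n : ℕ} {f : Γ(B.V.left, ⊤)} (hf : B.IsInvSection n f) : IsInvOpen a (nv hf.1) := by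
  refine isInvOpen_iff fun p hp => ?_
  obtain ⟨v, hv, hvp⟩ := hp
  obtain ⟨z', hz', hz''⟩ : ∃ z', (G ◁ B.π).left z' = p ∧ (snd G B.V).left z' = v := by
    obtain ⟨w, hw, hw'⟩ := Scheme.exists_preimage_of_isPullback
      (Groth.Agent.FinHom.isPullback_whiskerLeft G B.π) p v (by
        rw [← Over.snd_left]; exact hvp.symm)
    exact ⟨w, hw, by rw [Over.snd_left]; exact hw'⟩
  have h1 : z' ∈ (snd G B.V).left ⁻¹ᵁ B.V.left.basicOpen f := by
    show (snd G B.V).left z' ∈ B.V.left.basicOpen f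
    rw [hz'']; exact hv
  rw [← act_preimage_basicOpen hf.2] at h1
  refine ⟨B.lift.act.left z', h1, ?_⟩
  rw [← Scheme.Hom.comp_apply, ← Over.comp_left, B.lift_π, Over.comp_left, Scheme.Hom.comp_apply, hz']

theorem flat_whiskerLeft : Flat (G ◁ B.π).left := by
  haveI := flat_π (B := B)
  exact MorphismProperty.of_isPullback (Groth.Agent.FinHom.isPullback_whiskerLeft G B.π).flip inferInstance

/-- The ratio of two invariant sections is invariant. -/
theorem ratio_invariant' {p q n m : ℕ} {f g : Γ(B.V.left, ⊤)} (hf : B.IsInvSection p f) (hg : B.IsInvSection q g)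
    {h : Γ(X.left, nv hf.1)} (hh : IsRatio (nv hf.1) n m f g h) :
    a.act.left.appLE (nv hf.1) ((snd G X).left ⁻¹ᵁ nv hf.1) (isInvOpen_nv hf).ge h =
      (snd G X).left.appLE (nv hf.1) ((snd G X).left ⁻¹ᵁ nv hf.1) le_rfl h := by
  haveI := flat_whiskerLeft (B := B)
  let D := B.π.left ⁻¹ᵁ nv hf.1 ⊓ B.V.left.basicOpen f
  let W := (snd G B.V).left ⁻¹ᵁ D
  have hW : W ≤ (G ◁ B.π).left ⁻¹ᵁ ((snd G X).left ⁻¹ᵁ nv hf.1) := by
    intro z hz
    show ((G ◁ B.π) ≫ snd G X).left z ∈ nv hf.1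
    rw [whiskerLeft_snd]
    exact hz.1
  have hW' : W ≤ B.lift.act.left ⁻¹ᵁ D := by
    intro z hz
    have hz2 : z ∈ B.lift.act.left ⁻¹ᵁ B.V.left.basicOpen f := (act_preimage_basicOpen hf.2).ge hz.2
    exact ⟨basicOpen_le hf.1 hz2, hz2⟩
  apply appLE_injective (G ◁ B.π).left _ W hW ?_
  · have hs : ∀ (e₁ : W ≤ ((snd G B.V) ≫ B.π).left ⁻¹ᵁ nv hf.1),
        ((snd G B.V) ≫ B.π).left.appLE (nv hf.1) W e₁ h =
          (snd G B.V).left.appLE D W le_rfl (B.π.left.appLE (nv hf.1) D inf_le_left h) := fun e₁ => by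
      rw [← ConcreteCategory.comp_apply, Scheme.Hom.appLE_comp_appLE]
      rfl
    have ha : ∀ (e₁ : W ≤ (B.lift.act ≫ B.π).left ⁻¹ᵁ nv hf.1),
        (B.lift.act ≫ B.π).left.appLE (nv hf.1) W e₁ h =
          B.lift.act.left.appLE D W hW' (B.π.left.appLE (nv hf.1) D inf_le_left h) := fun e₁ => by
      rw [← ConcreteCategory.comp_apply, Scheme.Hom.appLE_comp_appLE]
      rfl
    have congr' : ∀ {q q' : G ⊗ B.V ⟶ X} (e : q = q') (e₁ : W ≤ q.left ⁻¹ᵁ nv hf.1)
        (e₂ : W ≤ q'.left ⁻¹ᵁ nv hf.1), q.left.appLE (nv hf.1) W e₁ h = q'.left.appLE (nv hf.1) W e₂ h := by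
      rintro q q' rfl e₁ e₂; rfl
    have l1 : ∀ (e₁ : W ≤ ((G ◁ B.π) ≫ a.act).left ⁻¹ᵁ nv hf.1),
        (G ◁ B.π).left.appLE _ W hW (a.act.left.appLE (nv hf.1) _ (isInvOpen_nv hf).ge h) =
          ((G ◁ B.π) ≫ a.act).left.appLE (nv hf.1) W e₁ h := fun e₁ => by
      rw [← ConcreteCategory.comp_apply, Scheme.Hom.appLE_comp_appLE]
      rfl
    have l2 : ∀ (e₁ : W ≤ ((G ◁ B.π) ≫ snd G X).left ⁻¹ᵁ nv hf.1),
        (G ◁ B.π).left.appLE _ W hW ((snd G X).left.appLE (nv hf.1) _ le_rfl h) =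
          ((G ◁ B.π) ≫ snd G X).left.appLE (nv hf.1) W e₁ h := fun e₁ => by
      rw [← ConcreteCategory.comp_apply, Scheme.Hom.appLE_comp_appLE]
      rfl
    have e₂ : W ≤ ((snd G B.V) ≫ B.π).left ⁻¹ᵁ nv hf.1 := fun z hz => hz.1
    have e₁ : W ≤ (B.lift.act ≫ B.π).left ⁻¹ᵁ nv hf.1 := fun z hz => (hW' hz).1
    rw [l1 (by rw [← B.lift_π]; exact e₁), l2 (by rw [whiskerLeft_snd]; exact e₂),
      congr' B.lift_π.symm _ e₁, congr' (whiskerLeft_snd G B.π) _ e₂, ha e₁, hs e₂]
    let ρ : Γ((G ⊗ B.V).left, ⊤) ⟶ Γ((G ⊗ B.V).left, W) := (G ⊗ B.V).left.presheaf.map (homOfLE le_top).op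
    have nat : ∀ (q : G ⊗ B.V ⟶ B.V) (e : W ≤ q.left ⁻¹ᵁ D) (r : Γ(B.V.left, ⊤)),
        q.left.appLE D W e (B.V.left.presheaf.map (homOfLE (le_top : D ≤ ⊤)).op r) = ρ (q.left.appTop r) := by
      intro q e r
      rw [← ConcreteCategory.comp_apply, ← ConcreteCategory.comp_apply, Scheme.Hom.map_appLE]
      rfl
    have A1 := congrArg (B.lift.act.left.appLE D W hW') hh
    have A2 := congrArg ((snd G B.V).left.appLE D W le_rfl) hh
    erw [map_mul, map_pow, map_pow, nat, nat, hf.2, hg.2] at A1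
    erw [map_mul, map_pow, map_pow, nat, nat] at A2
    have hu : IsUnit (ρ ((snd G B.V).left.appTop f) ^ m) := by
      rw [← nat (snd G B.V) le_rfl f, ← map_pow]
      exact (isUnit_res_basicOpen (n := m) D inf_le_right).map ((snd G B.V).left.appLE D W le_rfl).hom
    exact hu.mul_left_inj.1 (A1.trans A2.symm)
  · intro p hp
    obtain ⟨v, hv, hvp⟩ := hp
    obtain ⟨w, hw, hw'⟩ := Scheme.exists_preimage_of_isPullback
      (Groth.Agent.FinHom.isPullback_whiskerLeft G B.π) p v (by rw [← Over.snd_left]; exact hvp.symm)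
    refine ⟨w, ?_, hw⟩
    show (snd G B.V).left w ∈ D
    rw [Over.snd_left]
    rw [hw']
    exact ⟨basicOpen_le hf.1 hv, hv⟩

theorem ratio_invariant {n m : ℕ} {f g : Γ(B.V.left, ⊤)} (hf : B.IsInvSection n f) (hg : B.IsInvSection m g)
    {h : Γ(X.left, nv hf.1)} (hh : IsRatio (nv hf.1) n m f g h) :
    a.act.left.appLE (nv hf.1) ((snd G X).left ⁻¹ᵁ nv hf.1) (isInvOpen_nv hf).ge h =
      (snd G X).left.appLE (nv hf.1) ((snd G X).left ⁻¹ᵁ nv hf.1) le_rfl h :=
  ratio_invariant' hf hg hh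

/-- Closed orbits in an invariant open: the restricted action is closed. -/
theorem isClosedAction_of_closedOrbitsOn {U : X.left.Opens} (hcl : GLinSh.ClosedOrbitsOn a U)
    (aU : AlgGrp.Action G (openObj U)) (he : aU.act ≫ openHom U = (G ◁ openHom U) ≫ a.act) :
    GIT.IsClosedAction aU := by
  intro Ω _ _ T eT f
  have e : GIT.psi aU f ≫ (openHom U ▷ T) = GIT.psi a (f ≫ openHom U) := by
    refine CartesianMonoidalCategory.hom_ext _ _ ?_ ?_
    · simp [GIT.psi, he]
    · simp [GIT.psi]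
  have hfU : Set.range (f ≫ openHom U).left.base ⊆ (U : Set X.left) := by
    rintro _ ⟨t, rfl⟩
    exact (f.left t).2
  have h := hcl Ω T eT (f ≫ openHom U) hfU
  haveI : IsOpenImmersion (openHom U ▷ T).left := MorphismProperty.of_isPullback
    ((GITAffLib.isPullback_whiskerRight (openHom U) T).map (Over.forget _))
    (show IsOpenImmersion U.ι from inferInstance)
  have hmem : ∀ q, (openHom U ▷ T).left q ∈ (fst X T).left ⁻¹ᵁ U := fun q => by
    show ((openHom U ▷ T) ≫ fst X T).left q ∈ U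
    rw [whiskerRight_fst]
    exact ((fst (openObj U) T).left q).2
  have h' := h.preimage ((openHom U ▷ T).left.continuous.subtype_mk hmem)
  have he' : Set.range (GIT.psi aU f).left.base = (openHom U ▷ T).left ⁻¹' Set.range (GIT.psi a (f ≫ openHom U)).left.base := by
    rw [← e, Over.comp_left, Scheme.Hom.comp_base, TopCat.coe_comp, Set.range_comp]
    exact (Set.preimage_image_eq _ (openHom U ▷ T).left.isOpenEmbedding.injective).symm
  rw [he']
  exact h'

theorem ClosedOrbitsOn.mono {U U' : X.left.Opens} (hcl : GLinSh.ClosedOrbitsOn a U) (hle : U' ≤ U) :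
    GLinSh.ClosedOrbitsOn a U' := by
  intro Ω _ _ T eT f hf
  exact (hcl Ω T eT f (hf.trans hle)).preimage
    (Continuous.subtype_mk continuous_subtype_val
      (fun p : (fst X T).left ⁻¹ᵁ U' => (fst X T).left.preimage_mono hle p.2))

end GLinShLib
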