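import Groth.Agent.GLinShLib.Inv
import Mathlib.AlgebraicGeometry.Morphisms.QuasiSeparated

/-!
# Powers of sections; extension of invariant functions on `X_f` to invariant sections
-/

set_option autoImplicit false
set_option backward.isDefEq.respectTransparency false
set_option synthInstance.maxHeartbeats 400000
set_option maxHeartbeats 1000000
set_option linter.style.haveILetI false

universe u

noncomputable section

open CategoryTheory CategoryTheory.Limits MonoidalCategory CartesianMonoidalCategory AlgebraicGeometry Opposite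
  TopologicalSpace
open scoped MonObj

namespace GLinShLib

variable {S : Scheme.{u}} {G X : Over S} [GrpObj G] {a : AlgGrp.Action G X} {B : GLinSh.LinBun G a}

theorem res_res {U U' W : X.left.Opens} (h : W ≤ U') (h' : U' ≤ U) (y : Γ(B.V.left, B.π.left ⁻¹ᵁ U)) :
    GLinSh.res B.π h (GLinSh.res B.π h' y) = GLinSh.res B.π (h.trans h') y := by
  show (B.V.left.presheaf.map _ ≫ B.V.left.presheaf.map _) y = _
  rw [← Functor.map_comp]
  rfl

theorem res_resTop {U W : X.left.Opens} (h : W ≤ U) (f : Γ(B.V.left, ⊤)) :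
    GLinSh.res B.π h (GLinSh.resTop B.π U f) = GLinSh.resTop B.π W f := by
  show (B.V.left.presheaf.map _ ≫ B.V.left.presheaf.map _) f = _
  rw [← Functor.map_comp]
  rfl

theorem res_app {U W : X.left.Opens} (h : W ≤ U) (c : Γ(X.left, U)) :
    GLinSh.res B.π h (B.π.left.app U c) = B.π.left.app W (X.left.presheaf.map (homOfLE h).op c) :=
  GITAffLib.map_app (φ := B.π) h c

theorem res_mul {U W : X.left.Opens} (h : W ≤ U) (y z : Γ(B.V.left, B.π.left ⁻¹ᵁ U)) :
    GLinSh.res B.π h (y * z) = GLinSh.res B.π h y * GLinSh.res B.π h z :=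
  map_mul (B.V.left.presheaf.map (homOfLE (B.π.left.preimage_mono h)).op).hom y z

theorem res_pow {U W : X.left.Opens} (h : W ≤ U) (y : Γ(B.V.left, B.π.left ⁻¹ᵁ U)) (n : ℕ) :
    GLinSh.res B.π h (y ^ n) = GLinSh.res B.π h y ^ n :=
  map_pow (B.V.left.presheaf.map (homOfLE (B.π.left.preimage_mono h)).op).hom y n

theorem hasWeight_one : GLinSh.HasWeight B.atlas.chart 0 (1 : Γ(B.V.left, ⊤)) := fun U y _ =>
  ⟨1, by rw [GLinSh.resTop, map_one, map_one, pow_zero, mul_one]⟩

theorem hasWeight_pow {n : ℕ} {f : Γ(B.V.left, ⊤)} (hf : GLinSh.HasWeight B.atlas.chart n f) (m : ℕ) :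
    GLinSh.HasWeight B.atlas.chart (n * m) (f ^ m) := by
  induction m with
  | zero => rw [pow_zero, Nat.mul_zero]; exact hasWeight_one
  | succ m ih => rw [pow_succ, Nat.mul_succ]; exact hasWeight_mul ih hf

theorem isInvSection_mul {n m : ℕ} {f g : Γ(B.V.left, ⊤)} (hf : B.IsInvSection n f) (hg : B.IsInvSection m g) :
    B.IsInvSection (n + m) (f * g) :=
  ⟨hasWeight_mul hf.1 hg.1, by rw [GLinSh.IsInvFn, map_mul, map_mul, hf.2, hg.2]⟩

theorem isInvSection_pow {n : ℕ} {f : Γ(B.V.left, ⊤)} (hf : B.IsInvSection n f) (m : ℕ) :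
    B.IsInvSection (n * m) (f ^ m) :=
  ⟨hasWeight_pow hf.1 m, by rw [GLinSh.IsInvFn, map_pow, map_pow, hf.2]⟩

theorem nonvanishing_pow (f : Γ(B.V.left, ⊤)) {m : ℕ} (hm : 1 ≤ m) :
    GLinSh.nonvanishing B.π (f ^ m) = GLinSh.nonvanishing B.π f := by
  rw [GLinSh.nonvanishing, GLinSh.nonvanishing, basicOpen_pow_eq f hm]

theorem coeff_unique {U O : X.left.Opens} {y : Γ(B.V.left, B.π.left ⁻¹ᵁ U)} (hy : y ∈ B.atlas.chart U)
    (hO : O ≤ U) {n : ℕ} {c c' : Γ(X.left, O)}
    (h : B.π.left.app O c * GLinSh.res B.π hO y ^ n = B.π.left.app O c' * GLinSh.res B.π hO y ^ n) : c = c' := by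
  let κ := {W : X.left.Opens // IsAffineOpen W ∧ W ≤ O}
  refine X.left.sheaf.eq_of_locally_eq' (fun W : κ => W.1) O (fun W => homOfLE W.2.2) (fun z hz => ?_) c c'
    fun W => ?_
  · obtain ⟨W, hW, hzW, hWO⟩ := exists_isAffineOpen_mem_and_subset (U := O) hz
    exact Opens.mem_iSup.2 ⟨⟨W, hW, hWO⟩, hzW⟩
  · show X.left.presheaf.map (homOfLE W.2.2).op c = X.left.presheaf.map (homOfLE W.2.2).op c'
    have h' := congrArg (GLinSh.res B.π W.2.2) h
    rw [res_mul, res_mul, res_pow, res_app, res_app, res_res] at h'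
    have e : ∀ d : Γ(X.left, W.1), Polynomial.eval₂RingHom (B.π.left.app W.1).hom (GLinSh.res B.π (W.2.2.trans hO) y)
        (Polynomial.C d * Polynomial.X ^ n) = B.π.left.app W.1 d * GLinSh.res B.π (W.2.2.trans hO) y ^ n := by
      intro d
      simp
    rw [← e, ← e] at h'
    simpa using congrArg (fun p => p.coeff n) ((B.atlas.coord U y hy W.1 W.2.1 (W.2.2.trans hO)).1 h')

/-- Weights can be checked on a cover by charts. -/
theorem hasWeight_of_cover {n : ℕ} {F : Γ(B.V.left, ⊤)}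
    (H : ∀ x : X.left, ∃ K : Chart B, x ∈ K.W ∧
      ∃ c : Γ(X.left, K.W), GLinSh.resTop B.π K.W F = B.π.left.app K.W c * K.coord ^ n) :
    GLinSh.HasWeight B.atlas.chart n F := by
  intro U y hy
  have loc : ∀ x ∈ U, ∃ (W : X.left.Opens) (hWU : W ≤ U), x ∈ W ∧ ∃ c : Γ(X.left, W),
      GLinSh.resTop B.π W F = B.π.left.app W c * GLinSh.res B.π hWU y ^ n := by
    intro x hx
    obtain ⟨K, hxK, c, hc⟩ := H x
    obtain ⟨u, hu, hlin⟩ := B.atlas.linear U K.U y K.y hy K.mem
    refine ⟨U ⊓ K.W, inf_le_left, ⟨hx, hxK⟩, ?_⟩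
    have hle : U ⊓ K.W ≤ U ⊓ K.U := inf_le_inf_left _ K.le
    have h1 := congrArg (GLinSh.res B.π hle) hlin
    rw [res_mul, res_res, res_res, res_app] at h1
    have h2 := congrArg (GLinSh.res B.π (inf_le_right : U ⊓ K.W ≤ K.W)) hc
    rw [res_mul, res_pow, res_resTop, res_app] at h2
    unfold Chart.coord at h2
    rw [res_res] at h2
    refine ⟨X.left.presheaf.map (homOfLE (inf_le_right : U ⊓ K.W ≤ K.W)).op c *
      X.left.presheaf.map (homOfLE hle).op u ^ n, ?_⟩
    rw [h2, h1, map_mul, map_pow]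
    ring
  choose! W hWU hxW c hc using loc
  obtain ⟨s, hs, -⟩ := X.left.sheaf.existsUnique_gluing' (fun x : (U : Set X.left) => W x.1) U
    (fun x => homOfLE (hWU x.1 x.2)) (fun x hx => Opens.mem_iSup.2 ⟨⟨x, hx⟩, hxW x hx⟩)
    (fun x => c x.1) (fun x z => by
      refine coeff_unique hy (inf_le_left.trans (hWU x.1 x.2)) (n := n) ?_
      have e1 := congrArg (GLinSh.res B.π (inf_le_left : W x.1 ⊓ W z.1 ≤ W x.1)) (hc x.1 x.2)
      have e2 := congrArg (GLinSh.res B.π (inf_le_right : W x.1 ⊓ W z.1 ≤ W z.1)) (hc z.1 z.2)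
      rw [res_mul, res_pow, res_resTop, res_app, res_res] at e1 e2
      exact e1.symm.trans e2)
  refine ⟨(s : Γ(X.left, U)), B.V.left.sheaf.eq_of_locally_eq' (fun x : (U : Set X.left) => B.π.left ⁻¹ᵁ W x.1) _
    (fun x => homOfLE (B.π.left.preimage_mono (hWU x.1 x.2)))
    (fun v hv => Opens.mem_iSup.2 ⟨⟨B.π.left v, hv⟩, hxW _ hv⟩) _ _ fun x => ?_⟩
  show GLinSh.res B.π (hWU x.1 x.2) _ = GLinSh.res B.π (hWU x.1 x.2) _
  rw [res_mul, res_pow, res_resTop, res_app,
    show X.left.presheaf.map (homOfLE (hWU x.1 x.2)).op s = c x.1 from hs x]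
  exact hc x.1 x.2

theorem basicOpen_resTop (W : X.left.Opens) (f : Γ(B.V.left, ⊤)) :
    B.V.left.basicOpen (GLinSh.resTop B.π W f) = B.π.left ⁻¹ᵁ W ⊓ B.V.left.basicOpen f :=
  Scheme.basicOpen_res _ _ _

/-- In a chart an extension of `s · f^M` becomes a section of the weight after multiplying by powers of `f`. -/
theorem exists_coeff_extension {n M : ℕ} {f F : Γ(B.V.left, ⊤)} (hf : GLinSh.HasWeight B.atlas.chart n f)
    {s : Γ(X.left, nv hf)} (hF : IsRatio (nv hf) 1 M f F s) (K : Chart B) :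
    ∃ e₀ : ℕ, ∀ e, e₀ ≤ e → ∃ c' : Γ(X.left, K.W),
      GLinSh.resTop B.π K.W (F * f ^ e) = B.π.left.app K.W c' * K.coord ^ (n * (M + e)) := by
  obtain ⟨c, hc⟩ := K.exists_coeff hf
  have hD : X.left.basicOpen c ≤ nv hf := fun z hz => (mem_nonvanishing_iff K hc (X.left.basicOpen_le c hz)).2 hz
  haveI := K.affine.isLocalization_basicOpen c
  obtain ⟨⟨d, -, p, rfl⟩, hd⟩ :=
    IsLocalization.surj (Submonoid.powers c) (X.left.presheaf.map (homOfLE hD).op s)
  change _ * X.left.presheaf.map (homOfLE (X.left.basicOpen_le c)).op (c ^ p) =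
    X.left.presheaf.map (homOfLE (X.left.basicOpen_le c)).op d at hd
  set g := GLinSh.resTop B.π K.W f
  let T : Γ(B.V.left, B.π.left ⁻¹ᵁ K.W) :=
    GLinSh.resTop B.π K.W F * g ^ p - B.π.left.app K.W (d * c ^ M) * K.coord ^ (n * (M + p))
  set E := B.V.left.basicOpen g
  have hEW : E ≤ B.π.left ⁻¹ᵁ K.W := B.V.left.basicOpen_le g
  have hEf : E ≤ B.V.left.basicOpen f := by
    show B.V.left.basicOpen g ≤ _
    rw [basicOpen_resTop]; exact inf_le_right
  have hEc : E ≤ B.π.left ⁻¹ᵁ X.left.basicOpen c := fun v hv => by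
    have : B.π.left v ∈ nv hf := basicOpen_le hf (hEf hv)
    exact (mem_nonvanishing_iff K hc (hEW hv)).1 this
  have hT : T |_ B.V.left.basicOpen g = 0 := by
    show B.V.left.presheaf.map (homOfLE hEW).op T = 0
    rw [map_sub, sub_eq_zero, map_mul, map_pow, map_mul, map_pow]
    let r : Γ(B.V.left, ⊤) →+* Γ(B.V.left, E) := (B.V.left.presheaf.map (homOfLE (le_top : E ≤ ⊤)).op).hom
    have er : ∀ t, B.V.left.presheaf.map (homOfLE hEW).op (GLinSh.resTop B.π K.W t) = r t := fun t => by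
      show (B.V.left.presheaf.map _ ≫ B.V.left.presheaf.map _) t = _
      rw [← Functor.map_comp]
      rfl
    let π' : Γ(X.left, X.left.basicOpen c) →+* Γ(B.V.left, E) :=
      (B.π.left.appLE (X.left.basicOpen c) E hEc).hom
    have eπ : ∀ t, B.V.left.presheaf.map (homOfLE hEW).op (B.π.left.app K.W t) =
        π' (X.left.presheaf.map (homOfLE (X.left.basicOpen_le c)).op t) := fun t => by
      show (B.π.left.app _ ≫ _) t = (X.left.presheaf.map _ ≫ B.π.left.appLE _ _ _) t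
      rw [Scheme.Hom.map_appLE]
      rfl
    have hs : π' (X.left.presheaf.map (homOfLE hD).op s) * r f ^ M = r F := by
      have hE' : E ≤ B.π.left ⁻¹ᵁ nv hf ⊓ B.V.left.basicOpen f := le_inf (hEf.trans (basicOpen_le hf)) hEf
      have e := congrArg (B.V.left.presheaf.map (homOfLE hE').op) hF
      rw [map_mul, map_pow, map_pow, pow_one] at e
      simp only [← ConcreteCategory.comp_apply, ← Functor.map_comp, Scheme.Hom.appLE_map] at e
      refine Eq.trans ?_ e
      congr 1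
      show (X.left.presheaf.map _ ≫ B.π.left.appLE _ _ _) s = _
      rw [Scheme.Hom.map_appLE]
    have hcoord : r f = π' (X.left.presheaf.map (homOfLE (X.left.basicOpen_le c)).op c) *
        B.V.left.presheaf.map (homOfLE hEW).op K.coord ^ n := by
      rw [← er, ← eπ, ← map_pow, ← map_mul]
      exact congrArg _ hc
    have hd' := congrArg π' hd
    rw [map_mul, map_pow, map_pow] at hd'
    rw [er, er, eπ, ← hs, map_mul, map_pow, map_mul, map_pow, ← hd', hcoord]
    ring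
  obtain ⟨q, hq⟩ := exists_pow_mul_eq_zero_of_res_basicOpen_eq_zero_of_isCompact B.V.left
    K.affine_preimage.isCompact T g hT
  rw [mul_sub, sub_eq_zero] at hq
  refine ⟨p + q, fun e he => ?_⟩
  obtain ⟨r, rfl⟩ := Nat.exists_eq_add_of_le he
  refine ⟨d * c ^ (M + q + r), ?_⟩
  calc GLinSh.resTop B.π K.W (F * f ^ (p + q + r))
      = g ^ r * (g ^ q * (GLinSh.resTop B.π K.W F * g ^ p)) := by
        simp only [g, GLinSh.resTop, map_mul, map_pow]; ring
    _ = _ := by
        rw [hq, hc]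
        simp only [map_mul, map_pow]
        ring

variable [CompactSpace X.left] [QuasiSeparatedSpace X.left]

/-- An invariant function on `X_f` times a large power of `f` is an invariant section. -/
theorem exists_extension [QuasiCompact G.hom] {n : ℕ} {f : Γ(B.V.left, ⊤)} (hf : B.IsInvSection n f)
    (s : Γ(X.left, nv hf.1))
    (hs : a.act.left.appLE (nv hf.1) ((snd G X).left ⁻¹ᵁ nv hf.1) (isInvOpen_nv hf).ge s =
      (snd G X).left.appLE (nv hf.1) ((snd G X).left ⁻¹ᵁ nv hf.1) le_rfl s) :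
    ∃ M₀ : ℕ, 1 ≤ M₀ ∧ ∀ M, M₀ ≤ M → ∃ F, B.IsInvSection (n * M) F ∧ IsRatio (nv hf.1) 1 1 (f ^ M) F s := by
  haveI := B.atlas.affine
  haveI : CompactSpace B.V.left := QuasiCompact.compactSpace_of_compactSpace B.π.left
  haveI : QuasiSeparatedSpace B.V.left := quasiSeparatedSpace_of_quasiSeparated B.π.left
  let N := nv hf.1
  let D := B.π.left ⁻¹ᵁ N ⊓ B.V.left.basicOpen f
  have hDf : B.V.left.basicOpen f ≤ D := le_inf (basicOpen_le hf.1) le_rfl
  obtain ⟨M, F₀, hF₀⟩ := exists_eq_pow_mul_of_isCompact_of_isQuasiSeparated B.V.left ⊤ isCompact_univ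
    isQuasiSeparated_univ f (B.π.left.appLE N (B.V.left.basicOpen f) (basicOpen_le hf.1) s)
  have hR : IsRatio N 1 M f F₀ s := by
    have e := congrArg (B.V.left.presheaf.map (homOfLE (inf_le_right : D ≤ B.V.left.basicOpen f)).op) hF₀
    simp only [TopCat.Presheaf.restrictOpenCommRingCat_apply, map_mul, map_pow, ← ConcreteCategory.comp_apply,
      Scheme.Hom.appLE_map, ← Functor.map_comp] at e
    unfold IsRatio
    rw [pow_one, mul_comm]
    exact e.symm
  -- weight
  choose K hK hK' using fun x : X.left => exists_chart (B := B) x (O := ⊤) trivial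
  obtain ⟨t, ht⟩ := CompactSpace.elim_nhds_subcover (fun x => ((K x).W : Set X.left))
    (fun x => (K x).W.isOpen.mem_nhds (hK x))
  choose e₁ he₁ using fun x : X.left => exists_coeff_extension hf.1 hR (K x)
  -- invariance
  let φ : Γ((G ⊗ B.V).left, ⊤) := (snd G B.V).left.appTop f
  haveI : QuasiCompact (snd G B.V).left := by
    rw [Over.snd_left]; exact MorphismProperty.pullback_snd _ _ inferInstance
  haveI : CompactSpace (G ⊗ B.V).left := QuasiCompact.compactSpace_of_compactSpace (snd G B.V).left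
  have hinv : (B.lift.act.left.appTop F₀ - (snd G B.V).left.appTop F₀) |_ (G ⊗ B.V).left.basicOpen φ = 0 := by
    haveI := flat_whiskerLeft (B := B)
    set E := (G ⊗ B.V).left.basicOpen φ
    have hE2 : E ≤ (snd G B.V).left ⁻¹ᵁ D := by
      show (G ⊗ B.V).left.basicOpen ((snd G B.V).left.appTop f) ≤ _
      erw [← Scheme.preimage_basicOpen]
      exact (snd G B.V).left.preimage_mono hDf
    have hE1 : E ≤ B.lift.act.left ⁻¹ᵁ D := by
      show (G ⊗ B.V).left.basicOpen ((snd G B.V).left.appTop f) ≤ _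
      rw [← hf.2]
      erw [← Scheme.preimage_basicOpen]
      exact B.lift.act.left.preimage_mono hDf
    let ρ : Γ((G ⊗ B.V).left, ⊤) ⟶ Γ((G ⊗ B.V).left, E) := (G ⊗ B.V).left.presheaf.map (homOfLE le_top).op
    show ρ _ = 0
    rw [map_sub, sub_eq_zero]
    have nat : ∀ (q : G ⊗ B.V ⟶ B.V) (e : E ≤ q.left ⁻¹ᵁ D) (r : Γ(B.V.left, ⊤)),
        q.left.appLE D E e (B.V.left.presheaf.map (homOfLE (le_top : D ≤ ⊤)).op r) = ρ (q.left.appTop r) := by
      intro q e r
      rw [← ConcreteCategory.comp_apply, ← ConcreteCategory.comp_apply, Scheme.Hom.map_appLE]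
      rfl
    have A1 := congrArg (B.lift.act.left.appLE D E hE1) hR
    have A2 := congrArg ((snd G B.V).left.appLE D E hE2) hR
    erw [map_mul, map_pow, map_pow, nat, nat, hf.2, pow_one] at A1
    erw [map_mul, map_pow, map_pow, nat, nat, pow_one] at A2
    refine A1.symm.trans (Eq.trans ?_ A2)
    congr 1
    have hEN : E ≤ (G ◁ B.π).left ⁻¹ᵁ ((snd G X).left ⁻¹ᵁ N) := fun z hz => by
      show ((G ◁ B.π) ≫ snd G X).left z ∈ N
      rw [whiskerLeft_snd]
      exact (hE2 hz).1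
    have c0 : ∀ {q : G ⊗ B.V ⟶ B.V} (e : E ≤ q.left ⁻¹ᵁ D) (e' : E ≤ (q ≫ B.π).left ⁻¹ᵁ N),
        q.left.appLE D E e (B.π.left.appLE N D inf_le_left s) = (q ≫ B.π).left.appLE N E e' s := by
      intro q e e'
      rw [← ConcreteCategory.comp_apply, Scheme.Hom.appLE_comp_appLE]
      rfl
    have congr' : ∀ {q q' : G ⊗ B.V ⟶ X} (e : q = q') (e₁ : E ≤ q.left ⁻¹ᵁ N) (e₂ : E ≤ q'.left ⁻¹ᵁ N),
        q.left.appLE N E e₁ s = q'.left.appLE N E e₂ s := by
      rintro q q' rfl e₁ e₂; rfl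
    have e₂ : E ≤ ((snd G B.V) ≫ B.π).left ⁻¹ᵁ N := fun z hz => (hE2 hz).1
    have e₁ : E ≤ (B.lift.act ≫ B.π).left ⁻¹ᵁ N := fun z hz => (hE1 hz).1
    have e₁' : E ≤ ((G ◁ B.π) ≫ a.act).left ⁻¹ᵁ N := by rw [← B.lift_π]; exact e₁
    have e₂' : E ≤ ((G ◁ B.π) ≫ snd G X).left ⁻¹ᵁ N := by rw [whiskerLeft_snd]; exact e₂
    erw [c0 hE1 e₁, c0 hE2 e₂, congr' B.lift_π e₁ e₁', congr' (whiskerLeft_snd G B.π).symm e₂ e₂']
    have := congrArg ((G ◁ B.π).left.appLE _ E hEN) hs
    rw [← ConcreteCategory.comp_apply, ← ConcreteCategory.comp_apply, Scheme.Hom.appLE_comp_appLE,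
      Scheme.Hom.appLE_comp_appLE] at this
    simp only [Over.comp_left]
    exact this
  obtain ⟨e₂, he₂⟩ := exists_pow_mul_eq_zero_of_res_basicOpen_eq_zero_of_isCompact (G ⊗ B.V).left isCompact_univ
    _ φ hinv
  rw [mul_sub, sub_eq_zero] at he₂
  refine ⟨M + t.sup e₁ + e₂ + 1, by omega, fun M' hM' => ?_⟩
  obtain ⟨e, rfl⟩ := Nat.exists_eq_add_of_le (show M ≤ M' by omega)
  refine ⟨F₀ * f ^ e, ⟨hasWeight_of_cover fun x => ?_, ?_⟩, ?_⟩
  · obtain ⟨z, hz, hxz⟩ := Set.mem_iUnion₂.1 (ht.ge (Set.mem_univ x))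
    exact ⟨K z, hxz, he₁ z e ((Finset.le_sup hz).trans (by omega))⟩
  · obtain ⟨e', rfl⟩ := Nat.exists_eq_add_of_le (show e₂ ≤ e by omega)
    rw [GLinSh.IsInvFn, map_mul, map_pow, map_mul, map_pow, hf.2]
    calc B.lift.act.left.appTop F₀ * φ ^ (e₂ + e') = φ ^ e' * (φ ^ e₂ * B.lift.act.left.appTop F₀) := by ring
      _ = φ ^ e' * (φ ^ e₂ * (snd G B.V).left.appTop F₀) := by rw [he₂]
      _ = _ := by ring
  · have hpow : B.V.left.basicOpen (f ^ (M + e)) = B.V.left.basicOpen f := basicOpen_pow_eq f (by omega)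
    set D' := B.π.left ⁻¹ᵁ nv hf.1 ⊓ B.V.left.basicOpen (f ^ (M + e))
    have hle : D' ≤ D := inf_le_inf_left _ hpow.le
    have r1 : ∀ t, B.V.left.presheaf.map (homOfLE hle).op (B.V.left.presheaf.map (homOfLE (le_top : D ≤ ⊤)).op t) =
        B.V.left.presheaf.map (homOfLE (le_top : D' ≤ ⊤)).op t := fun t => by
      show (B.V.left.presheaf.map _ ≫ B.V.left.presheaf.map _) t = _
      rw [← Functor.map_comp]
      rfl
    have r2 : B.V.left.presheaf.map (homOfLE hle).op (B.π.left.appLE (nv hf.1) D inf_le_left s) =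
        B.π.left.appLE (nv hf.1) D' inf_le_left s := by
      show (B.π.left.appLE _ _ _ ≫ B.V.left.presheaf.map _) s = _
      rw [Scheme.Hom.appLE_map]
    have k := congrArg (B.V.left.presheaf.map (homOfLE hle).op) hR
    erw [map_mul, map_pow, map_pow, r2, r1, r1, pow_one] at k
    unfold IsRatio
    rw [pow_one, pow_one, map_pow, map_mul, map_pow, ← k, mul_assoc, ← pow_add]

end GLinShLib
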