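import Groth.Prelude.Def_GLinSh
import Groth.Agent.FinHomLib.Affine
import Mathlib

/-!
# Weight functions on line bundles and their loci of non-vanishing
-/

set_option autoImplicit false
set_option backward.isDefEq.respectTransparency false
set_option synthInstance.maxHeartbeats 400000
set_option maxHeartbeats 1000000
set_option linter.style.haveILetI false

universe u

noncomputable section

open CategoryTheory CategoryTheory.Limits MonoidalCategory CartesianMonoidalCategory AlgebraicGeometry Opposite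
  TopologicalSpace
open scoped MonObj

namespace GLinShLib

/-- A flat morphism which covers an open is injective on its sections. -/
theorem appLE_injective {P Q : Scheme.{u}} (q : P ⟶ Q) [Flat q] (O : Q.Opens) (W : P.Opens) (hle : W ≤ q ⁻¹ᵁ O)
    (hsurj : ∀ x ∈ O, ∃ p ∈ W, q p = x) : Function.Injective (q.appLE O W hle) := by
  intro s t hst
  refine TopCat.Presheaf.section_ext Q.sheaf O s t fun x hx => ?_
  obtain ⟨p, hp, rfl⟩ := hsurj x hx
  have hinj : Function.Injective (q.stalkMap p) := by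
    letI := (q.stalkMap p).hom.toAlgebra
    haveI : Module.Flat (Q.presheaf.stalk (q p)) (P.presheaf.stalk p) := Flat.stalkMap q p
    haveI : IsLocalHom (algebraMap (Q.presheaf.stalk (q p)) (P.presheaf.stalk p)) :=
      inferInstanceAs (IsLocalHom (q.stalkMap p).hom)
    haveI := Module.FaithfullyFlat.of_flat_of_isLocalHom (A := Q.presheaf.stalk (q p)) (B := P.presheaf.stalk p)
    exact FaithfulSMul.algebraMap_injective (Q.presheaf.stalk (q p)) (P.presheaf.stalk p)
  apply hinj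
  have key : ∀ r, q.stalkMap p (Q.presheaf.germ O (q p) hx r) = P.presheaf.germ W p hp (q.appLE O W hle r) := by
    intro r
    rw [Scheme.Hom.appLE, ConcreteCategory.comp_apply, P.presheaf.germ_res_apply,
      ← Scheme.Hom.germ_stalkMap_apply]
  exact (key s).trans ((congrArg _ hst).trans (key t).symm)

theorem basicOpen_pow_eq {Y : Scheme.{u}} {U : Y.Opens} (r : Γ(Y, U)) {n : ℕ} (hn : 0 < n) :
    Y.basicOpen (r ^ n) = Y.basicOpen r :=
  RingedSpace.basicOpen_pow _ _ _ hn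

variable {S : Scheme.{u}} {G X : Over S} [GrpObj G] {a : AlgGrp.Action G X} (B : GLinSh.LinBun G a)

/-- A chart over an affine open. -/
structure Chart where
  /-- the affine open -/
  W : X.left.Opens
  /-- it is affine -/
  affine : IsAffineOpen W
  /-- the domain of the coordinate -/
  U : X.left.Opens
  /-- the inclusion -/
  le : W ≤ U
  /-- the coordinate -/
  y : Γ(B.V.left, B.π.left ⁻¹ᵁ U)
  /-- admissibility -/
  mem : y ∈ B.atlas.chart U

variable {B}

/-- The coordinate on the affine open. -/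
def Chart.coord (K : Chart B) : Γ(B.V.left, B.π.left ⁻¹ᵁ K.W) := GLinSh.res B.π K.le K.y

theorem exists_chart (x : X.left) {O : X.left.Opens} (hx : x ∈ O) : ∃ K : Chart B, x ∈ K.W ∧ K.W ≤ O := by
  obtain ⟨U, hxU, y, hy⟩ := B.atlas.cover x
  obtain ⟨_, ⟨W, hW, rfl⟩, hxW, hWU⟩ :=
    X.left.isBasis_affineOpens.exists_subset_of_mem_open (show x ∈ ((U ⊓ O : X.left.Opens) : Set X.left) from ⟨hxU, hx⟩)
      (U ⊓ O).isOpen
  exact ⟨⟨W, hW, U, fun z hz => (hWU hz).1, y, hy⟩, hxW, fun z hz => (hWU hz).2⟩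

theorem Chart.bijective (K : Chart B) :
    Function.Bijective (Polynomial.eval₂RingHom (B.π.left.app K.W).hom K.coord) :=
  B.atlas.coord K.U K.y K.mem K.W K.affine K.le

theorem Chart.affine_preimage (K : Chart B) : IsAffineOpen (B.π.left ⁻¹ᵁ K.W) := by
  haveI := B.atlas.affine
  exact K.affine.preimage B.π.left

theorem Chart.exists_coeff (K : Chart B) {n : ℕ} {f : Γ(B.V.left, ⊤)}
    (hf : GLinSh.HasWeight B.atlas.chart n f) :
    ∃ c : Γ(X.left, K.W), GLinSh.resTop B.π K.W f = B.π.left.app K.W c * K.coord ^ n := by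
  obtain ⟨c, hc⟩ := hf K.U K.y K.mem
  refine ⟨X.left.presheaf.map (homOfLE K.le).op c, ?_⟩
  have h := congrArg (B.V.left.presheaf.map (homOfLE (B.π.left.preimage_mono K.le)).op) hc
  rw [map_mul, map_pow] at h
  refine (show GLinSh.resTop B.π K.W f = _ from ?_).trans (h.trans ?_)
  · show _ = (B.V.left.presheaf.map (homOfLE le_top).op ≫ B.V.left.presheaf.map _) f
    rw [← Functor.map_comp]
    rfl
  · congr 1
    show _ = (X.left.presheaf.map (homOfLE K.le).op ≫ B.π.left.app K.W) c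
    rw [B.π.left.naturality]
    rfl

theorem flat_π : Flat B.π.left := by
  haveI := B.atlas.affine
  choose K hK hK' using fun x : X.left => exists_chart (B := B) x (O := ⊤) trivial
  refine (IsZariskiLocalAtTarget.iff_of_iSup_eq_top (P := @Flat) (fun x => (K x).W) ?_).2 fun x => ?_
  · exact top_le_iff.1 fun x _ => Opens.mem_iSup.2 ⟨x, hK x⟩
  haveI : IsAffine (K x).W := (K x).affine
  haveI : IsAffine (B.π.left ⁻¹ᵁ (K x).W) := (K x).affine_preimage
  refine (HasRingHomProperty.iff_of_isAffine (P := @Flat)).2 ?_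
  rw [morphismRestrict_appTop, CommRingCat.hom_comp, RingHom.Flat.respectsIso.cancel_right_isIso]
  suffices h : ∀ W' : X.left.Opens, W' = (K x).W → (B.π.left.app W').hom.Flat from
    h _ (Scheme.Opens.ι_image_top _)
  rintro _ rfl
  have e : (B.π.left.app (K x).W).hom =
      (RingEquiv.ofBijective _ (K x).bijective).toRingHom.comp Polynomial.C := by
    refine RingHom.ext fun c => ?_
    show _ = Polynomial.eval₂RingHom (B.π.left.app (K x).W).hom (K x).coord (Polynomial.C c)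
    rw [Polynomial.coe_eval₂RingHom, Polynomial.eval₂_C]
  rw [e]
  refine RingHom.Flat.respectsIso.1 _ _ ?_
  exact RingHom.flat_algebraMap_iff.2 inferInstance

theorem exists_point_of_mem {n : ℕ} {f : Γ(B.V.left, ⊤)} (K : Chart B) {c : Γ(X.left, K.W)}
    (hc : GLinSh.resTop B.π K.W f = B.π.left.app K.W c * K.coord ^ n) {x : X.left} (hx : x ∈ K.W)
    (hxc : x ∈ X.left.basicOpen c) : ∃ v ∈ B.V.left.basicOpen f, B.π.left v = x := by
  let A := Γ(X.left, K.W)
  let E := RingEquiv.ofBijective _ K.bijective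
  let p := (K.affine.primeIdealOf ⟨x, hx⟩).asIdeal
  haveI : (p.map (Polynomial.C : A →+* Polynomial A)).IsPrime := Ideal.isPrime_map_C_of_isPrime
  let q : Spec Γ(B.V.left, B.π.left ⁻¹ᵁ K.W) :=
    ⟨(p.map (Polynomial.C : A →+* Polynomial A)).comap E.symm.toRingHom, Ideal.comap_isPrime _ _⟩
  refine ⟨K.affine_preimage.fromSpec q, ?_, ?_⟩
  · have h1 : K.affine_preimage.fromSpec q ∈ B.V.left.basicOpen (GLinSh.resTop B.π K.W f) := by
      show q ∈ K.affine_preimage.fromSpec ⁻¹ᵁ B.V.left.basicOpen (GLinSh.resTop B.π K.W f)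
      rw [K.affine_preimage.fromSpec_preimage_basicOpen]
      show GLinSh.resTop B.π K.W f ∉ q.asIdeal
      rw [hc]
      intro hmem
      have hmem' : E.symm (B.π.left.app K.W c * K.coord ^ n) ∈ p.map (Polynomial.C : A →+* Polynomial A) := hmem
      have he : E.symm (B.π.left.app K.W c * K.coord ^ n) = Polynomial.C c * Polynomial.X ^ n := by
        rw [RingEquiv.symm_apply_eq]
        simp [E]
      rw [he] at hmem'
      have := Ideal.mem_map_C_iff.1 hmem' n
      rw [Polynomial.coeff_C_mul, Polynomial.coeff_X_pow_self, mul_one] at this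
      have hxc' : K.affine.primeIdealOf ⟨x, hx⟩ ∈ K.affine.fromSpec ⁻¹ᵁ X.left.basicOpen c := by
        show K.affine.fromSpec (K.affine.primeIdealOf ⟨x, hx⟩) ∈ X.left.basicOpen c
        rw [K.affine.fromSpec_primeIdealOf]
        exact hxc
      rw [K.affine.fromSpec_preimage_basicOpen] at hxc'
      exact hxc' this
    rw [GLinSh.resTop, Scheme.basicOpen_res] at h1
    exact h1.2
  · rw [← Scheme.Hom.comp_apply, ← IsAffineOpen.SpecMap_appLE_fromSpec B.π.left K.affine K.affine_preimage le_rfl,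
      Scheme.Hom.comp_apply, Scheme.Hom.appLE_eq_app]
    have h2 : Spec.map (B.π.left.app K.W) q = K.affine.primeIdealOf ⟨x, hx⟩ := by
      refine PrimeSpectrum.ext ?_
      ext c'
      show E.symm (B.π.left.app K.W c') ∈ p.map (Polynomial.C : A →+* Polynomial A) ↔ c' ∈ p
      have he : E.symm (B.π.left.app K.W c') = Polynomial.C c' := by
        rw [RingEquiv.symm_apply_eq]
        simp [E]
      rw [he]
      refine ⟨fun h => ?_, Ideal.mem_map_of_mem _⟩
      simpa using Ideal.mem_map_C_iff.1 h 0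
    rw [h2, K.affine.fromSpec_primeIdealOf]

theorem mem_nonvanishing_iff {n : ℕ} {f : Γ(B.V.left, ⊤)} (K : Chart B) {c : Γ(X.left, K.W)}
    (hc : GLinSh.resTop B.π K.W f = B.π.left.app K.W c * K.coord ^ n) {x : X.left} (hx : x ∈ K.W) :
    x ∈ GLinSh.nonvanishing B.π f ↔ x ∈ X.left.basicOpen c := by
  refine ⟨?_, fun h => ?_⟩
  · rintro ⟨v, hv, rfl⟩
    have h1 : v ∈ B.V.left.basicOpen (GLinSh.resTop B.π K.W f) := by
      rw [GLinSh.resTop, Scheme.basicOpen_res]; exact ⟨hx, hv⟩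
    rw [hc, Scheme.basicOpen_mul] at h1
    show v ∈ B.π.left ⁻¹ᵁ X.left.basicOpen c
    rw [Scheme.preimage_basicOpen]
    exact h1.1
  · obtain ⟨v, hv, hvx⟩ := exists_point_of_mem K hc hx h
    exact ⟨v, hv, hvx⟩

theorem isOpen_nonvanishing {n : ℕ} {f : Γ(B.V.left, ⊤)} (hf : GLinSh.HasWeight B.atlas.chart n f) :
    IsOpen (GLinSh.nonvanishing B.π f) := by
  rw [isOpen_iff_forall_mem_open]
  intro x hx
  obtain ⟨K, hxK, -⟩ := exists_chart (B := B) x (O := ⊤) trivial
  obtain ⟨c, hc⟩ := K.exists_coeff hf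
  exact ⟨X.left.basicOpen c, fun z hz => (mem_nonvanishing_iff K hc (X.left.basicOpen_le c hz)).2 hz,
    (X.left.basicOpen c).isOpen, (mem_nonvanishing_iff K hc hxK).1 hx⟩

/-- The open `X_f`. -/
def nv {n : ℕ} {f : Γ(B.V.left, ⊤)} (hf : GLinSh.HasWeight B.atlas.chart n f) : X.left.Opens :=
  ⟨GLinSh.nonvanishing B.π f, isOpen_nonvanishing hf⟩

theorem hasWeight_mul {n m : ℕ} {f g : Γ(B.V.left, ⊤)} (hf : GLinSh.HasWeight B.atlas.chart n f)
    (hg : GLinSh.HasWeight B.atlas.chart m g) : GLinSh.HasWeight B.atlas.chart (n + m) (f * g) := by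
  intro U y hy
  obtain ⟨c, hc⟩ := hf U y hy
  obtain ⟨d, hd⟩ := hg U y hy
  refine ⟨c * d, ?_⟩
  simp only [GLinSh.resTop, map_mul] at hc hd ⊢
  rw [hc, hd, pow_add]
  ring

theorem nv_mul {n m : ℕ} {f g : Γ(B.V.left, ⊤)} (hf : GLinSh.HasWeight B.atlas.chart n f)
    (hg : GLinSh.HasWeight B.atlas.chart m g) : nv (hasWeight_mul hf hg) = nv hf ⊓ nv hg := by
  ext x
  show x ∈ GLinSh.nonvanishing B.π (f * g) ↔ x ∈ GLinSh.nonvanishing B.π f ∧ x ∈ GLinSh.nonvanishing B.π g
  obtain ⟨K, hxK, -⟩ := exists_chart (B := B) x (O := ⊤) trivial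
  obtain ⟨c, hc⟩ := K.exists_coeff hf
  obtain ⟨d, hd⟩ := K.exists_coeff hg
  have hcd : GLinSh.resTop B.π K.W (f * g) = B.π.left.app K.W (c * d) * K.coord ^ (n + m) := by
    simp only [GLinSh.resTop, map_mul] at hc hd ⊢
    rw [hc, hd, pow_add]
    ring
  rw [mem_nonvanishing_iff K hc hxK, mem_nonvanishing_iff K hd hxK, mem_nonvanishing_iff K hcd hxK,
    Scheme.basicOpen_mul]
  rfl

theorem basicOpen_le {n : ℕ} {f : Γ(B.V.left, ⊤)} (hf : GLinSh.HasWeight B.atlas.chart n f) :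
    B.V.left.basicOpen f ≤ B.π.left ⁻¹ᵁ nv hf := fun v hv => ⟨v, hv, rfl⟩

theorem appLE_inj {n : ℕ} {f : Γ(B.V.left, ⊤)} (hf : GLinSh.HasWeight B.atlas.chart n f) (O : X.left.Opens)
    (hO : O ≤ nv hf) : Function.Injective
      (B.π.left.appLE O (B.π.left ⁻¹ᵁ O ⊓ B.V.left.basicOpen f) inf_le_left) := by
  haveI := flat_π (B := B)
  refine appLE_injective _ _ _ _ fun x hx => ?_
  obtain ⟨v, hv, rfl⟩ := hO hx
  exact ⟨v, ⟨hx, hv⟩, rfl⟩

theorem isUnit_res_basicOpen {n : ℕ} {f : Γ(B.V.left, ⊤)} (W : B.V.left.Opens) (hW : W ≤ B.V.left.basicOpen f) :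
    IsUnit (B.V.left.presheaf.map (homOfLE (le_top : W ≤ ⊤)).op f ^ n) := by
  refine IsUnit.pow n ?_
  have h := (B.V.left.toLocallyRingedSpace.toRingedSpace.isUnit_res_basicOpen f).map (B.V.left.presheaf.map (homOfLE hW).op).hom
  change IsUnit ((B.V.left.presheaf.map _ ≫ B.V.left.presheaf.map _) f) at h
  rwa [← Functor.map_comp] at h

/-- The relation defining the ratio `g^n / f^m` on `X_f`. -/
def IsRatio (O : X.left.Opens) (n m : ℕ) (f g : Γ(B.V.left, ⊤)) (h : Γ(X.left, O)) : Prop :=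
  B.π.left.appLE O (B.π.left ⁻¹ᵁ O ⊓ B.V.left.basicOpen f) inf_le_left h *
      B.V.left.presheaf.map (homOfLE (le_top : B.π.left ⁻¹ᵁ O ⊓ B.V.left.basicOpen f ≤ ⊤)).op f ^ m =
    B.V.left.presheaf.map (homOfLE (le_top : B.π.left ⁻¹ᵁ O ⊓ B.V.left.basicOpen f ≤ ⊤)).op g ^ n

theorem IsRatio.res {O O' : X.left.Opens} {n m : ℕ} {f g : Γ(B.V.left, ⊤)} {h : Γ(X.left, O)}
    (hh : IsRatio O n m f g h) (hle : O' ≤ O) : IsRatio O' n m f g (X.left.presheaf.map (homOfLE hle).op h) := by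
  have e := congrArg (B.V.left.presheaf.map
    (homOfLE (inf_le_inf_right (B.V.left.basicOpen f) (B.π.left.preimage_mono hle))).op) hh
  rw [map_mul, map_pow, map_pow] at e
  unfold IsRatio
  simp only [← ConcreteCategory.comp_apply, ← Functor.map_comp, Scheme.Hom.appLE_map, Scheme.Hom.map_appLE] at e ⊢
  exact e

theorem IsRatio.unique {O : X.left.Opens} {n m : ℕ} {f g : Γ(B.V.left, ⊤)}
    (hf : GLinSh.HasWeight B.atlas.chart n f) (hO : O ≤ nv hf) {h h' : Γ(X.left, O)}
    (hh : IsRatio O n m f g h) (hh' : IsRatio O n m f g h') : h = h' :=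
  appLE_inj hf O hO (((isUnit_res_basicOpen _ inf_le_right).mul_left_inj).1 (hh.trans hh'.symm))

theorem IsRatio.unique' {O : X.left.Opens} {p n m : ℕ} {f g : Γ(B.V.left, ⊤)}
    (hf : GLinSh.HasWeight B.atlas.chart p f) (hO : O ≤ nv hf) {h h' : Γ(X.left, O)}
    (hh : IsRatio O n m f g h) (hh' : IsRatio O n m f g h') : h = h' :=
  appLE_inj hf O hO (((isUnit_res_basicOpen _ inf_le_right).mul_left_inj).1 (hh.trans hh'.symm))

theorem exists_ratio' {p q n m : ℕ} {f g : Γ(B.V.left, ⊤)} (hf : GLinSh.HasWeight B.atlas.chart p f)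
    (hg : GLinSh.HasWeight B.atlas.chart q g) (hpq : p * m = q * n) : ∃ h : Γ(X.left, nv hf), IsRatio (nv hf) n m f g h := by
  have loc : ∀ x ∈ nv hf, ∃ (W : X.left.Opens), x ∈ W ∧ W ≤ nv hf ∧ ∃ h, IsRatio W n m f g h := by
    intro x hx
    obtain ⟨K, hxK, hKO⟩ := exists_chart (B := B) x hx
    refine ⟨K.W, hxK, hKO, ?_⟩
    obtain ⟨c, hc⟩ := K.exists_coeff hf
    obtain ⟨d, hd⟩ := K.exists_coeff hg
    have hbo : X.left.basicOpen c = K.W :=
      le_antisymm (X.left.basicOpen_le c) fun z hz => (mem_nonvanishing_iff K hc hz).1 (hKO hz)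
    have hu : IsUnit c :=
      X.left.toLocallyRingedSpace.toRingedSpace.isUnit_of_isUnit_germ K.W c fun z hz => by
        have hz' : z ∈ X.left.basicOpen c := hbo.ge hz
        exact (X.left.mem_basicOpen c z hz).1 hz'
    obtain ⟨u, hu'⟩ := hu
    refine ⟨d ^ n * ↑(u⁻¹ ^ m), ?_⟩
    have hle : B.π.left ⁻¹ᵁ K.W ⊓ B.V.left.basicOpen f ≤ B.π.left ⁻¹ᵁ K.W := inf_le_left
    have ef := congrArg (B.V.left.presheaf.map (homOfLE hle).op) hc
    have eg := congrArg (B.V.left.presheaf.map (homOfLE hle).op) hd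
    rw [map_mul, map_pow] at ef eg
    simp only [GLinSh.resTop, Scheme.Hom.app_eq_appLE, ← ConcreteCategory.comp_apply, ← Functor.map_comp,
      Scheme.Hom.appLE_map] at ef eg
    unfold IsRatio
    simp only [← op_comp, homOfLE_comp] at ef eg ⊢
    rw [ef, eg]
    have hcd : c ^ m * (d ^ n * ↑(u⁻¹ ^ m)) = d ^ n := by
      rw [← hu', mul_left_comm, ← Units.val_pow_eq_pow_val, ← Units.val_mul, ← mul_pow, mul_inv_cancel, one_pow,
        Units.val_one, mul_one]
    simp only [mul_pow, ← pow_mul]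
    rw [← mul_assoc, ← map_pow, ← map_mul, mul_comm (d ^ n * _), hcd, map_pow, ← hpq]
  choose! W hxW hWO h hh using loc
  let I := (nv hf : Set X.left)
  obtain ⟨s, hs, -⟩ := X.left.sheaf.existsUnique_gluing' (fun x : I => W x.1) (nv hf)
    (fun x => homOfLE (hWO x.1 x.2)) (fun x hx => Opens.mem_iSup.2 ⟨⟨x, hx⟩, hxW x hx⟩)
    (fun x => h x.1) (fun x y => by
      exact IsRatio.unique' hf (inf_le_left.trans (hWO x.1 x.2)) ((hh x.1 x.2).res _) ((hh y.1 y.2).res _))
  refine ⟨s, ?_⟩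
  let D := B.π.left ⁻¹ᵁ nv hf ⊓ B.V.left.basicOpen f
  let D' : I → B.V.left.Opens := fun x => B.π.left ⁻¹ᵁ W x.1 ⊓ B.V.left.basicOpen f
  refine B.V.left.sheaf.eq_of_locally_eq' D' D
    (fun x => homOfLE (inf_le_inf_right _ (B.π.left.preimage_mono (hWO x.1 x.2))))
    (fun v hv => Opens.mem_iSup.2 ⟨⟨B.π.left v, hv.1⟩, hxW _ hv.1, hv.2⟩) _ _ fun x => ?_
  have e := hh x.1 x.2
  unfold IsRatio at e
  have hs' : X.left.presheaf.map (homOfLE (hWO x.1 x.2)).op s = h x.1 := hs x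
  rw [← hs'] at e
  show B.V.left.presheaf.map _ _ = B.V.left.presheaf.map _ _
  rw [map_mul, map_pow, map_pow]
  simp only [← ConcreteCategory.comp_apply, Scheme.Hom.map_appLE] at e
  change (B.π.left.appLE (nv hf) D inf_le_left ≫ B.V.left.presheaf.map _) s *
    (B.V.left.presheaf.map _ ≫ B.V.left.presheaf.map _) f ^ m = (B.V.left.presheaf.map _ ≫ B.V.left.presheaf.map _) g ^ n
  rw [Scheme.Hom.appLE_map]
  simp only [← Functor.map_comp]
  exact e

theorem exists_ratio {n m : ℕ} {f g : Γ(B.V.left, ⊤)} (hf : GLinSh.HasWeight B.atlas.chart n f)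
    (hg : GLinSh.HasWeight B.atlas.chart m g) : ∃ h : Γ(X.left, nv hf), IsRatio (nv hf) n m f g h :=
  exists_ratio' hf hg (Nat.mul_comm n m)

theorem basicOpen_ratio' {p q n m : ℕ} {f g : Γ(B.V.left, ⊤)} (hn : n ≠ 0) (hf : GLinSh.HasWeight B.atlas.chart p f)
    (hg : GLinSh.HasWeight B.atlas.chart q g) {h : Γ(X.left, nv hf)} (hh : IsRatio (nv hf) n m f g h) :
    X.left.basicOpen h = nv hf ⊓ nv hg := by
  have key : ∀ v ∈ B.V.left.basicOpen f, (B.π.left v ∈ X.left.basicOpen h ↔ v ∈ B.V.left.basicOpen g) := by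
    intro v hv
    have hvD : v ∈ B.π.left ⁻¹ᵁ nv hf ⊓ B.V.left.basicOpen f := ⟨basicOpen_le hf hv, hv⟩
    have e := congrArg (fun r => v ∈ B.V.left.basicOpen r) hh
    simp only [Scheme.basicOpen_mul, Scheme.basicOpen_appLE, eq_iff_iff] at e
    rw [basicOpen_pow_eq _ (Nat.pos_of_ne_zero hn), Scheme.basicOpen_res] at e
    refine ⟨fun hp => (e.1 ⟨⟨hvD, hp⟩, ?_⟩).2, fun hp => (e.2 ⟨hvD, hp⟩).1.2⟩
    rcases Nat.eq_zero_or_pos m with rfl | hm
    · rw [pow_zero, Scheme.basicOpen_of_isUnit _ isUnit_one]; exact hvD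
    · rw [basicOpen_pow_eq _ hm, Scheme.basicOpen_res]; exact ⟨hvD, hv⟩
  ext x
  constructor
  · intro hx
    have hxf : x ∈ nv hf := X.left.basicOpen_le h hx
    obtain ⟨v, hv, rfl⟩ := hxf
    exact ⟨⟨v, hv, rfl⟩, v, (key v hv).1 hx, rfl⟩
  · intro hx
    obtain ⟨v, hv, rfl⟩ := (nv_mul hf hg).ge hx
    rw [Scheme.basicOpen_mul] at hv
    exact (key v hv.1).2 hv.2

theorem basicOpen_ratio {n m : ℕ} {f g : Γ(B.V.left, ⊤)} (hn : n ≠ 0) (hf : GLinSh.HasWeight B.atlas.chart n f)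
    (hg : GLinSh.HasWeight B.atlas.chart m g) {h : Γ(X.left, nv hf)} (hh : IsRatio (nv hf) n m f g h) :
    X.left.basicOpen h = nv hf ⊓ nv hg :=
  basicOpen_ratio' hn hf hg hh

end GLinShLib
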