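import Groth.Agent.GLinShLib.PS

/-!
# The action on the properly stable locus is proper
-/

set_option autoImplicit false
set_option backward.isDefEq.respectTransparency false
set_option synthInstance.maxHeartbeats 400000
set_option maxHeartbeats 1000000
set_option linter.style.haveILetI false

universe u

noncomputable section

open CategoryTheory CategoryTheory.Limits MonoidalCategory CartesianMonoidalCategory AlgebraicGeometry Topology
open CoactBr
open scoped MonObj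

namespace GLinShLib

section General

variable {S : Scheme.{u}} {G X Y Y' : Over S} [GrpObj G]

theorem exists_tensorHom_preimage (i : Y ⟶ X) (i' : Y' ⟶ X) (q : (X ⊗ X).left) (h₁ : (fst X X).left q ∈ Set.range i.left)
    (h₂ : (snd X X).left q ∈ Set.range i'.left) : q ∈ Set.range (i ⊗ₘ i').left := by
  obtain ⟨y', hy'⟩ := h₂
  obtain ⟨z, hz, -⟩ := Scheme.exists_preimage_of_isPullback
    (Groth.Agent.FinHom.isPullback_whiskerLeft X i') q y' (by rw [← Over.snd_left]; exact hy'.symm)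
  obtain ⟨y, hy⟩ := h₁
  have hfz : (fst X Y').left z = i.left y := by
    rw [hy, ← hz, ← Scheme.Hom.comp_apply, ← Over.comp_left, whiskerLeft_fst]
  obtain ⟨w, hw, -⟩ := Scheme.exists_preimage_of_isPullback
    ((GITAffLib.isPullback_whiskerRight i Y').map (Over.forget S)).flip z y hfz
  refine ⟨w, ?_⟩
  rw [MonoidalCategory.tensorHom_def, Over.comp_left, Scheme.Hom.comp_apply]
  exact (congrArg _ hw).trans hz

theorem isOpenImmersion_tensorHom (i : Y ⟶ X) (i' : Y' ⟶ X) [IsOpenImmersion i.left] [IsOpenImmersion i'.left] :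
    IsOpenImmersion (i ⊗ₘ i').left := by
  rw [MonoidalCategory.tensorHom_def, Over.comp_left]
  haveI : IsOpenImmersion (i ▷ Y').left := MorphismProperty.of_isPullback
    ((GITAffLib.isPullback_whiskerRight i Y').map (Over.forget S)) ‹IsOpenImmersion i.left›
  haveI : IsOpenImmersion (X ◁ i').left := MorphismProperty.of_isPullback
    (Groth.Agent.FinHom.isPullback_whiskerLeft X i').flip inferInstance
  infer_instance

theorem isPullback_psi_of_range {aY : AlgGrp.Action G Y} {aX : AlgGrp.Action G X} (i : Y ⟶ X)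
    [IsOpenImmersion i.left] (he : aY.act ≫ i = (G ◁ i) ≫ aX.act) :
    IsPullback (GIT.psi aY (𝟙 Y)).left (G ◁ i).left (i ⊗ₘ i).left (GIT.psi aX (𝟙 X)).left := by
  haveI := isOpenImmersion_tensorHom i i
  haveI : IsOpenImmersion (G ◁ i).left := MorphismProperty.of_isPullback
    (Groth.Agent.FinHom.isPullback_whiskerLeft G i).flip inferInstance
  have e : (G ◁ i) ≫ GIT.psi aX (𝟙 X) = GIT.psi aY (𝟙 Y) ≫ (i ⊗ₘ i) := by
    refine CartesianMonoidalCategory.hom_ext _ _ ?_ ?_ <;> simp [GIT.psi, he]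
  refine IsOpenImmersion.isPullback _ _ _ _ (by rw [← Over.comp_left, ← Over.comp_left, e]) ?_
  ext p
  constructor
  · intro hp
    obtain ⟨w, hw⟩ := hp
    have h2 : (snd G X).left p = i.left ((snd Y Y).left w) := by
      rw [← GITAffLib.psi_snd aX (𝟙 X), Over.comp_left, Scheme.Hom.comp_apply, ← hw, ← Scheme.Hom.comp_apply,
        ← Over.comp_left, tensorHom_snd]
      rfl
    obtain ⟨z, hz⟩ := GITAffLib.exists_whiskerLeft_preimage i p _ h2
    exact ⟨z, hz⟩
  · rintro ⟨z, rfl⟩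
    refine ⟨(GIT.psi aY (𝟙 Y)).left z, ?_⟩
    rw [← Scheme.Hom.comp_apply, ← Over.comp_left, ← e]
    rfl

end General

variable {k : Type u} [Field k] {A : Type u} [CommRing A] [HopfAlgebra k A]
  {G X : Over (Spec (CommRingCat.of k))} [GrpObj G] {w : sp k A ⟶ G} [IsMonHom w] [IsIso w] {β : A →ₗ[k] k}
  {a : AlgGrp.Action G X}

theorem mem_basicOpen_of_notMem {Z : Scheme.{u}} {U : Z.Opens} (r : Γ(Z, U)) {q : Z} (hq : q ∈ U)
    (h : q ∉ Z.basicOpen (r - 1)) : q ∈ Z.basicOpen r := by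
  rw [Z.mem_basicOpen _ _ hq] at h ⊢
  rw [map_sub, map_one] at h
  rcases IsLocalRing.isUnit_or_isUnit_of_isUnit_add (a := Z.presheaf.germ U q hq r)
    (b := -(Z.presheaf.germ U q hq r - 1)) (by simp) with h' | h'
  · exact h'
  · exact absurd (by simpa using h'.neg) h

include w in
theorem isProper_psi_psOpen (hβ : ComodLib.IsInvariant β) (h1 : β 1 = 1) [Algebra.Smooth k A]
    [LocallyOfFiniteType G.hom] [QuasiCompact G.hom] [LocallyOfFiniteType X.hom] [LocallyOfFiniteType (GLinSh.stabTo a (𝟙 X))] (B : GLinSh.LinBun G a)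
    {U : Over (Spec (CommRingCat.of k))} (jU : U ⟶ X) [IsOpenImmersion jU.left]
    (hjU : jU.left.opensRange = psOpen B) (aP : AlgGrp.Action G U) (he : aP.act ≫ jU = (G ◁ jU) ≫ a.act)
    [LocallyQuasiFinite (GIT.psi aP (𝟙 U)).left] :
    IsProper (GIT.psi aP (𝟙 U)).left := by
  let ι' := {i : (n : ℕ) × Γ(B.V.left, ⊤) // 1 ≤ i.1 ∧ B.IsInvSection i.1 i.2 ∧
    ∀ hf : GLinSh.HasWeight B.atlas.chart i.1 i.2, IsAffineOpen (nv hf) ∧ GLinSh.ClosedOrbitsOn a (nv hf)}
  let N : ι' → X.left.Opens := fun i => nv i.2.2.1.1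
  have hN : ∀ i : ι', IsInvOpen a (N i) := fun i => isInvOpen_nv i.2.2.1
  choose h hh using fun ij : ι' × ι' => exists_ratio ij.1.2.2.1.1 ij.2.2.2.1.1
  have hbo : ∀ ij : ι' × ι', X.left.basicOpen (h ij) = N ij.1 ⊓ N ij.2 := fun ij =>
    basicOpen_ratio (by have := ij.1.2.1; omega) ij.1.2.2.1.1 ij.2.2.2.1.1 (hh ij)
  let O : ι' × ι' → (U ⊗ U).left.Opens := fun ij =>
    ((fst U U) ≫ jU).left ⁻¹ᵁ N ij.1 ⊓ ((snd U U) ≫ jU).left ⁻¹ᵁ N ij.2
  let u : ∀ ij, Γ((U ⊗ U).left, O ij) := fun ij => ((fst U U) ≫ jU).left.appLE (N ij.1) (O ij) inf_le_left (h ij)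
  let v : ∀ ij, Γ((U ⊗ U).left, O ij) := fun ij =>
    ((snd U U) ≫ jU).left.appLE (N ij.2) (O ij) inf_le_right (h (ij.2, ij.1))
  let D : ι' × ι' → (U ⊗ U).left.Opens := fun ij => (U ⊗ U).left.basicOpen (u ij * v ij - 1)
  let M : ι' × ι' → (U ⊗ U).left.Opens := fun ij =>
    ((fst U U) ≫ jU).left ⁻¹ᵁ (N ij.1 ⊓ N ij.2) ⊓ ((snd U U) ≫ jU).left ⁻¹ᵁ (N ij.1 ⊓ N ij.2)
  let cov : (ι' × ι') × Bool → (U ⊗ U).left.Opens := fun x => if x.2 then M x.1 else D x.1
  refine (IsZariskiLocalAtTarget.iff_of_iSup_eq_top (P := @IsProper) cov ?_).2 fun ⟨ij, b⟩ => ?_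
  · refine top_le_iff.1 fun q _ => TopologicalSpace.Opens.mem_iSup.2 ?_
    have hmem : ∀ x : U.left, ∃ i : ι', jU.left x ∈ N i := fun x => by
      have hx : jU.left x ∈ psOpen B := hjU.le ⟨x, rfl⟩
      rw [psOpen, TopologicalSpace.Opens.mem_inf, TopologicalSpace.Opens.mem_iSup] at hx
      exact hx.1
    obtain ⟨i, hi⟩ := hmem ((fst U U).left q)
    obtain ⟨j, hj⟩ := hmem ((snd U U).left q)
    have hqO : q ∈ O (i, j) := ⟨hi, hj⟩
    by_cases hq : q ∈ D (i, j)
    · exact ⟨((i, j), false), hq⟩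
    refine ⟨((i, j), true), ?_⟩
    have huv := mem_basicOpen_of_notMem (u (i, j) * v (i, j)) hqO hq
    rw [Scheme.basicOpen_mul, Scheme.basicOpen_appLE, Scheme.basicOpen_appLE, hbo, hbo] at huv
    exact ⟨huv.1.2, huv.2.2.2, huv.2.2.1⟩
  cases b
  · -- the preimage is empty
    show IsProper ((GIT.psi aP (𝟙 U)).left ∣_ D ij)
    have hbot : (GIT.psi aP (𝟙 U)).left ⁻¹ᵁ D ij = ⊥ := by
      let ψ := GIT.psi aP (𝟙 U)
      let O' := ψ.left ⁻¹ᵁ O ij
      have hact : ψ ≫ fst U U ≫ jU = ((G ◁ jU) ≫ a.act) := by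
        simp [ψ, GIT.psi, he]
      have hsnd : ψ ≫ snd U U ≫ jU = (G ◁ jU) ≫ snd G X := by
        simp [ψ, GIT.psi]
      have hO' : ∀ p ∈ O', (G ◁ jU).left p ∈ (snd G X).left ⁻¹ᵁ (N ij.1 ⊓ N ij.2) := by
        intro p hp
        refine ⟨?_, ?_⟩
        · refine (hN ij.1).le ?_
          show ((G ◁ jU) ≫ a.act).left p ∈ N ij.1
          rw [← hact]
          exact hp.1
        · show ((G ◁ jU) ≫ snd G X).left p ∈ N ij.2
          rw [← hsnd]
          exact hp.2
      have congr' : ∀ {q q' : G ⊗ U ⟶ X} (_ : q = q') {O₁ : X.left.Opens} (r : Γ(X.left, O₁))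
          (e₁ : O' ≤ q.left ⁻¹ᵁ O₁) (e₂ : O' ≤ q'.left ⁻¹ᵁ O₁),
          q.left.appLE O₁ O' e₁ r = q'.left.appLE O₁ O' e₂ r := by
        rintro q q' rfl O₁ r e₁ e₂; rfl
      have sc : ∀ {Z : Over (Spec (CommRingCat.of k))} (p : G ⊗ U ⟶ Z) (q : Z ⟶ X) {O₁ : X.left.Opens} (O₂ : Z.left.Opens)
          (e₂ : O₂ ≤ q.left ⁻¹ᵁ O₁) (e₁ : O' ≤ p.left ⁻¹ᵁ O₂) (r : Γ(X.left, O₁)),
          p.left.appLE O₂ O' e₁ (q.left.appLE O₁ O₂ e₂ r) =
            (p ≫ q).left.appLE O₁ O' (e₁.trans (p.left.preimage_mono e₂)) r := by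
        intros
        rw [← ConcreteCategory.comp_apply, Scheme.Hom.appLE_comp_appLE]
        rfl
      have key : ψ.left.appLE (O ij) O' le_rfl (u ij * v ij) = 1 := by
        have hW : O' ≤ ((G ◁ jU) ≫ snd G X).left ⁻¹ᵁ (N ij.1 ⊓ N ij.2) := hO'
        have ha : O' ≤ (G ◁ jU).left ⁻¹ᵁ ((snd G X).left ⁻¹ᵁ N ij.1) := fun p hp => (hO' p hp).1
        have h₁ : ψ.left.appLE (O ij) O' le_rfl (u ij) =
            ((G ◁ jU) ≫ snd G X).left.appLE (N ij.1) O' ha (h ij) := by
          have he1 : O' ≤ ((G ◁ jU) ≫ a.act).left ⁻¹ᵁ N ij.1 := ha.trans ((G ◁ jU).left.preimage_mono (hN ij.1).ge)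
          rw [sc ψ (fst U U ≫ jU), congr' hact (h ij) _ he1,
            ← sc (G ◁ jU) a.act ((snd G X).left ⁻¹ᵁ N ij.1) (hN ij.1).ge ha,
            ratio_invariant ij.1.2.2.1 ij.2.2.2.1 (hh ij), sc]
        have h₂ : ψ.left.appLE (O ij) O' le_rfl (v ij) =
            ((G ◁ jU) ≫ snd G X).left.appLE (N ij.2) O' (fun p hp => (hO' p hp).2) (h (ij.2, ij.1)) := by
          rw [sc ψ (snd U U ≫ jU), congr' hsnd]
        have hr : ∀ {O₁ : X.left.Opens} (hle : N ij.1 ⊓ N ij.2 ≤ O₁) (r : Γ(X.left, O₁)),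
            ((G ◁ jU) ≫ snd G X).left.appLE (N ij.1 ⊓ N ij.2) O' hW (X.left.presheaf.map (homOfLE hle).op r) =
              ((G ◁ jU) ≫ snd G X).left.appLE O₁ O' (hW.trans (Scheme.Hom.preimage_mono _ hle)) r := by
          intros
          rw [← ConcreteCategory.comp_apply, Scheme.Hom.map_appLE]
        rw [map_mul, h₁, h₂, ← hr inf_le_left, ← hr inf_le_right, ← map_mul,
          ratio_mul_ratio B ij.1.2.2.1.1 ij.2.2.2.1.1 (hh ij) (hh (ij.2, ij.1)), map_one]
      have e := Scheme.basicOpen_appLE ψ.left O' (O ij) le_rfl (u ij * v ij - 1)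
      rw [map_sub, key, map_one, sub_self, Scheme.basicOpen_zero] at e
      rw [eq_bot_iff]
      intro p hp
      exact e.ge ⟨ψ.left.preimage_mono ((U ⊗ U).left.basicOpen_le _) hp, hp⟩
    haveI : IsEmpty ↥((GIT.psi aP (𝟙 U)).left ⁻¹ᵁ D ij : Scheme.{u}) := by
      rw [hbot]
      exact ⟨fun p => p.2⟩
    haveI : IsClosedImmersion ((GIT.psi aP (𝟙 U)).left ∣_ D ij) := IsClosedImmersion.of_isPreimmersion _ (by
      simp [Set.range_eq_empty])
    infer_instance
  -- over `M`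
  show IsProper ((GIT.psi aP (𝟙 U)).left ∣_ M ij)
  set W := N ij.1 ⊓ N ij.2
  have hWinv : IsInvOpen a W := (hN ij.1).inf (hN ij.2)
  have hWaff : IsAffineOpen W := by
    show IsAffineOpen (N ij.1 ⊓ N ij.2)
    rw [← hbo]
    exact (ij.1.2.2.2 ij.1.2.2.1.1).1.basicOpen _
  obtain ⟨aW, haW⟩ := exists_action hWinv
  haveI : IsAffine (openObj W).left := hWaff
  haveI : LocallyOfFiniteType (openObj W).hom := inferInstanceAs (LocallyOfFiniteType (W.ι ≫ X.hom))
  have hclW := isClosedAction_of_closedOrbitsOn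
    (ClosedOrbitsOn.mono (ij.1.2.2.2 ij.1.2.2.1.1).2 inf_le_left : GLinSh.ClosedOrbitsOn a W) aW haW
  -- the part of the properly stable locus inside `W`
  set W' : U.left.Opens := jU.left ⁻¹ᵁ W
  have hW'inv : IsInvOpen aP W' := hWinv.comap he
  obtain ⟨a', ha'⟩ := exists_action hW'inv
  have hfac : Set.range ((openHom W' ≫ jU).left) ⊆ Set.range W.ι := by
    rintro _ ⟨x, rfl⟩
    rw [Scheme.Opens.range_ι]
    exact x.2
  let l : openObj W' ⟶ openObj W := Over.homMk (IsOpenImmersion.lift W.ι _ hfac) (by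
    show IsOpenImmersion.lift W.ι _ hfac ≫ W.ι ≫ X.hom = _
    rw [IsOpenImmersion.lift_fac_assoc, Over.w (openHom W' ≫ jU)])
  have hl : l ≫ openHom W = openHom W' ≫ jU := Over.OverMorphism.ext (IsOpenImmersion.lift_fac _ _ _)
  haveI : IsOpenImmersion (openHom W' ≫ jU).left :=
    inferInstanceAs (IsOpenImmersion (W'.ι ≫ jU.left))
  haveI : IsOpenImmersion l.left := by
    haveI : IsOpenImmersion (l.left ≫ (openHom W).left) := by rw [← Over.comp_left, hl]; infer_instance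
    exact IsOpenImmersion.of_comp l.left (openHom W).left
  have hla : a'.act ≫ l = (G ◁ l) ≫ aW.act := by
    rw [← cancel_mono (openHom W), Category.assoc, Category.assoc, hl, haW, reassoc_of% ha', he,
      ← MonoidalCategory.whiskerLeft_comp_assoc, ← hl, MonoidalCategory.whiskerLeft_comp_assoc]
  have hlinv : IsInvOpen aW l.left.opensRange := by
    have e : l.left.opensRange = (openHom W).left ⁻¹ᵁ psOpen B := by
      refine TopologicalSpace.Opens.ext (Set.Subset.antisymm ?_ ?_)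
      · rintro _ ⟨x, rfl⟩
        show (l ≫ openHom W).left x ∈ psOpen B
        rw [hl]
        exact hjU.le ⟨W'.ι x, rfl⟩
      · intro x hx
        obtain ⟨y, hy⟩ := hjU.ge hx
        refine ⟨⟨y, (show jU.left y ∈ W from hy ▸ x.2)⟩, (openHom W).left.isOpenEmbedding.injective ?_⟩
        show (l ≫ openHom W).left _ = _
        rw [hl]
        exact hy
    rw [e]
    exact (isInvOpen_psOpen B).comap haW
  have hpb := isPullback_psi_of_range (openHom W') ha'
  haveI : LocallyQuasiFinite (GIT.psi a' (𝟙 (openObj W'))).left := MorphismProperty.of_isPullback (P := @LocallyQuasiFinite) hpb.flip inferInstance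
  haveI hprop := isProper_psi_invariant (w := w) (a := aW) hβ h1 hclW l a' hla hlinv
  haveI := isOpenImmersion_tensorHom (openHom W') (openHom W')
  have hM : (openHom W' ⊗ₘ openHom W').left.opensRange = M ij := by
    refine TopologicalSpace.Opens.ext (Set.Subset.antisymm ?_ ?_)
    · rintro _ ⟨q, rfl⟩
      refine ⟨?_, ?_⟩
      · show ((openHom W' ⊗ₘ openHom W') ≫ fst U U ≫ jU).left q ∈ W
        rw [tensorHom_fst_assoc]
        exact ((fst (openObj W') (openObj W')).left q).2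
      · show ((openHom W' ⊗ₘ openHom W') ≫ snd U U ≫ jU).left q ∈ W
        rw [tensorHom_snd_assoc]
        exact ((snd (openObj W') (openObj W')).left q).2
    · intro q hq
      exact exists_tensorHom_preimage _ _ q ⟨⟨_, hq.1⟩, rfl⟩ ⟨⟨_, hq.2⟩, rfl⟩
  rw [← hM]
  exact (MorphismProperty.arrow_mk_iso_iff @IsProper
    (morphismRestrictOpensRange _ _ ≪≫ Arrow.isoMk (pullbackSymmetry _ _ ≪≫ hpb.isoPullback.symm) (Iso.refl _)
      (by simp))).2 hprop

include w in
theorem isProper_psi_openObj (hβ : ComodLib.IsInvariant β) (h1 : β 1 = 1) [Algebra.Smooth k A]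
    [LocallyOfFiniteType G.hom] [QuasiCompact G.hom] [LocallyOfFiniteType X.hom]
    [LocallyOfFiniteType (GLinSh.stabTo a (𝟙 X))] (B : GLinSh.LinBun G a)
    (aP : AlgGrp.Action G (openObj (psOpen B)))
    (he : aP.act ≫ openHom (psOpen B) = (G ◁ openHom (psOpen B)) ≫ a.act) :
    IsProper (GIT.psi aP (𝟙 (openObj (psOpen B)))).left :=
  haveI : LocallyQuasiFinite (GIT.psi aP (𝟙 (openObj (psOpen B)))).left :=
    locallyQuasiFinite_psi_restrict (inf_le_right : psOpen B ≤ finLocus a) aP he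
  isProper_psi_psOpen (w := w) hβ h1 B (openHom (psOpen B)) (Scheme.Opens.opensRange_ι _) aP he

end GLinShLib
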