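import Groth.Agent.GLinShLib.Quot
import Groth.Agent.GITAffLib.Setup

/-!
# Existence of the data for the semistable quotient
-/

set_option autoImplicit false
set_option backward.isDefEq.respectTransparency false
set_option synthInstance.maxHeartbeats 400000
set_option maxHeartbeats 1000000
set_option linter.style.haveILetI false

universe u

noncomputable section

open CategoryTheory CategoryTheory.Limits MonoidalCategory CartesianMonoidalCategory AlgebraicGeometry Opposite
  TopologicalSpace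
open CoactBr
open scoped MonObj

namespace GLinShLib

variable {k : Type u} [Field k] {G X : Over (Spec (CommRingCat.of k))} [GrpObj G] {a : AlgGrp.Action G X}

theorem IsInvFun.res {O O' : X.left.Opens} {hO : IsInvOpen a O} {hO' : IsInvOpen a O'} {s : Γ(X.left, O)}
    (h : IsInvFun hO s) (hle : O' ≤ O) : IsInvFun hO' (X.left.presheaf.map (homOfLE hle).op s) := by
  have e := congrArg ((G ⊗ X).left.presheaf.map (homOfLE ((snd G X).left.preimage_mono hle)).op) h
  unfold IsInvFun
  simp only [← ConcreteCategory.comp_apply, Scheme.Hom.appLE_map, Scheme.Hom.map_appLE] at e ⊢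
  exact e

theorem top_eq_preimage_openHom (O : X.left.Opens) :
    (⊤ : (openObj O).left.Opens) = (openHom O).left ⁻¹ᵁ O := (O.ι_preimage_self).symm

/-- Invariance on an open read on the open as a scheme. -/
theorem appTop_invariant_iff {O : X.left.Opens} (hO : IsInvOpen a O) (ao : AlgGrp.Action G (openObj O))
    (he : ao.act ≫ openHom O = (G ◁ openHom O) ≫ a.act) (s : Γ(X.left, O)) :
    ao.act.left.appTop ((openHom O).left.appLE O ⊤ (top_eq_preimage_openHom O).le s) =
      (snd G (openObj O)).left.appTop ((openHom O).left.appLE O ⊤ (top_eq_preimage_openHom O).le s) ↔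
      IsInvFun hO s := by
  let ι₁ := openHom O
  haveI := Groth.Agent.FinHom.isOpenImmersion_whiskerLeft G ι₁
  have hWT : (⊤ : (G ⊗ openObj O).left.Opens) = (G ◁ ι₁).left ⁻¹ᵁ ((snd G X).left ⁻¹ᵁ O) := by
    refine (top_le_iff.1 fun z _ => ?_).symm
    show ((G ◁ ι₁) ≫ snd G X).left z ∈ O
    rw [whiskerLeft_snd]
    exact ((snd G (openObj O)).left z).2
  have hWr : (snd G X).left ⁻¹ᵁ O ≤ (G ◁ ι₁).left.opensRange := fun p hp => by
    obtain ⟨z, hz⟩ := GITAffLib.exists_whiskerLeft_preimage ι₁ p ⟨_, hp⟩ rfl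
    exact ⟨z, hz⟩
  have bW := GITQuotLib.appLE_bij (G ◁ ι₁).left hWT hWr
  have ea : (G ◁ ι₁).left ≫ a.act.left = ao.act.left ≫ ι₁.left := (congrArg CommaMorphism.left he).symm
  have es : (G ◁ ι₁).left ≫ (snd G X).left = (snd G (openObj O)).left ≫ ι₁.left :=
    congrArg CommaMorphism.left (whiskerLeft_snd G ι₁)
  have hOT := top_eq_preimage_openHom O
  rw [Scheme.Hom.appTop, Scheme.Hom.appTop, Scheme.Hom.app_eq_appLE, Scheme.Hom.app_eq_appLE]
  unfold IsInvFun
  constructor
  · intro h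
    refine bW.1 ?_
    rw [GITQuotLib.appLE_sq _ _ _ _ ea (U := O) (VC := ⊤) (W := ⊤) _ _ hOT.le le_top s,
      GITQuotLib.appLE_sq _ _ _ _ es (U := O) (VC := ⊤) (W := ⊤) _ _ hOT.le le_top s]
    exact h
  · intro h
    have h2 := congrArg ((G ◁ ι₁).left.appLE _ ⊤ hWT.le) h
    rw [GITQuotLib.appLE_sq _ _ _ _ ea (U := O) (VC := ⊤) (W := ⊤) _ _ hOT.le le_top s,
      GITQuotLib.appLE_sq _ _ _ _ es (U := O) (VC := ⊤) (W := ⊤) _ _ hOT.le le_top s] at h2
    exact h2

variable {A : Type u} [CommRing A] [HopfAlgebra k A]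

/-- The invariant functions on an invariant affine open are finitely generated. -/
theorem exists_gens (w : sp k A ⟶ G) [IsMonHom w] [IsIso w] {β : A →ₗ[k] k} (hβ : ComodLib.IsInvariant β)
    (h1 : β 1 = 1) (hlr : HopfRep.IsLinearlyReductive k A) [LocallyOfFiniteType X.hom] {O : X.left.Opens}
    (hO : IsInvOpen a O) (haff : IsAffineOpen O) :
    ∃ t : Finset Γ(X.left, O), (∀ s ∈ t, IsInvFun hO s) ∧
      ∀ s, IsInvFun hO s → s ∈ Subring.closure (Set.range (const X O) ∪ (t : Set Γ(X.left, O))) := by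
  classical
  obtain ⟨ao, he⟩ := exists_action hO
  haveI : IsAffine (openObj O).left := haff
  haveI : LocallyOfFiniteType (openObj O).hom := inferInstanceAs (LocallyOfFiniteType (O.ι ≫ X.hom))
  obtain ⟨Y, φ, hY, hi, hgood⟩ := GITAffLib.exists_isGood w hβ ao
  have hft : Y.hom.appTop.hom.FiniteType :=
    (HasRingHomProperty.iff_of_isAffine (P := @LocallyOfFiniteType)).1
      (GITAffLib.locallyOfFiniteType_of_isGood h1 hlr hgood inferInstance)
  obtain ⟨g, hg⟩ := ChowLib.exists_generators Y.hom.appTop hft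
  have hP := hgood.props w hβ h1
  have bι := GITQuotLib.appLE_bij (openHom O).left (top_eq_preimage_openHom O) (Scheme.Opens.opensRange_ι _).ge
  let e := RingEquiv.ofBijective ((openHom O).left.appLE O ⊤ (top_eq_preimage_openHom O).le).hom bι
  let Φ : Γ(Y.left, ⊤) →+* Γ(X.left, O) := e.symm.toRingHom.comp φ.left.appTop.hom
  have hΦ : ∀ y, IsInvFun hO (Φ y) := fun y => by
    refine (appTop_invariant_iff hO ao he _).1 ?_
    have h' : (openHom O).left.appLE O ⊤ (top_eq_preimage_openHom O).le (Φ y) = φ.left.appTop y :=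
      e.apply_symm_apply _
    rw [h', ← CommRingCat.comp_apply, ← CommRingCat.comp_apply, ← Scheme.Hom.comp_appTop, ← Scheme.Hom.comp_appTop,
      ← Over.comp_left, ← Over.comp_left, show ao.act ≫ φ = snd G _ ≫ φ from hi]
  refine ⟨g.image Φ, fun s hs => ?_, fun s hs => ?_⟩
  · obtain ⟨y, -, rfl⟩ := Finset.mem_image.1 hs
    exact hΦ y
  · have hs' := (appTop_invariant_iff hO ao he s).2 hs
    obtain ⟨y, hy⟩ : (openHom O).left.appLE O ⊤ (top_eq_preimage_openHom O).le s ∈ Set.range φ.left.appTop := by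
      rw [hP.range]; exact hs'
    have hsy : Φ y = s := e.symm_apply_eq.2 hy
    rw [← hsy]
    let C := Subring.closure (Set.range (const X O) ∪ ((g.image Φ : Finset _) : Set Γ(X.left, O)))
    suffices h : C.comap Φ = ⊤ from h.ge (Subring.mem_top y)
    refine hg _ ?_ fun z hz => Subring.subset_closure (Or.inr (Finset.mem_image_of_mem Φ hz))
    rintro _ ⟨c, rfl⟩
    refine Subring.subset_closure (Or.inl ⟨(Scheme.ΓSpecIso (CommRingCat.of k)).hom c, ?_⟩)
    refine e.injective ?_
    refine Eq.trans ?_ (e.apply_symm_apply _).symm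
    show (openHom O).left.appLE O ⊤ (top_eq_preimage_openHom O).le (const X O _) = φ.left.appTop (Y.hom.appTop c)
    rw [appLE_const, ← CommRingCat.comp_apply, ← Scheme.Hom.comp_appTop, Over.w φ]
    simp only [const, RingHom.comp_apply, Iso.hom_inv_id_apply, Scheme.Hom.appTop, Scheme.Hom.app_eq_appLE]
    rfl

variable (B : GLinSh.LinBun G a)

/-- The data of the semistable quotient. -/
theorem exists_quotData (w : sp k A ⟶ G) [IsMonHom w] [IsIso w] {β : A →ₗ[k] k} (hβ : ComodLib.IsInvariant β)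
    (h1 : β 1 = 1) (hlr : HopfRep.IsLinearlyReductive k A) [LocallyOfFiniteType X.hom] [QuasiCompact X.hom]
    [QuasiCompact G.hom] {U : X.left.Opens} (hU : (U : Set X.left) = B.ssLocus) :
    ∃ (r N : ℕ) (F : Fin (r + 1) → Γ(B.V.left, ⊤)) (hF : ∀ j, B.IsInvSection N (F j)) (K : Set (Fin (r + 1))),
      1 ≤ N ∧ IsQuotData hF K ∧ U = ⨆ j : K, Nj hF j.1 := by
  classical
  haveI : IsLocallyNoetherian X.left := LocallyOfFiniteType.isLocallyNoetherian X.hom
  haveI : CompactSpace X.left := QuasiCompact.compactSpace_of_compactSpace X.hom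
  haveI : IsNoetherian X.left := {}
  haveI : QuasiSeparatedSpace X.left := inferInstance
  have hUc : IsCompact (U : Set X.left) := TopologicalSpace.NoetherianSpace.isCompact _
  have key : ∀ x : U, ∃ (n : ℕ) (f : Γ(B.V.left, ⊤)) (hf : B.IsInvSection n f),
      1 ≤ n ∧ x.1 ∈ nv hf.1 ∧ IsAffineOpen (nv hf.1) := by
    intro x
    obtain ⟨n, f, hn, hf, hx, O, hO, hOa⟩ := hU.le x.2
    obtain rfl := nv_congr hf.1 O hO
    exact ⟨n, f, hf, hn, hx, hOa⟩
  choose n f hf hn hx haff using key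
  obtain ⟨I, hI⟩ := hUc.elim_finite_subcover (fun x : U => (nv (hf x).1 : Set X.left)) (fun x => (nv (hf x).1).isOpen)
    fun x hx' => Set.mem_iUnion.2 ⟨⟨x, hx'⟩, hx _⟩
  let N₀ := ∏ x : I, n x.1
  have hN₀ : 1 ≤ N₀ := show 0 < ∏ x : I, n x.1 from Finset.prod_pos fun x _ => hn x.1
  have hdvd : ∀ x : I, n x.1 ∣ N₀ := fun x => Finset.dvd_prod_of_mem _ (Finset.mem_univ x)
  let g : I → Γ(B.V.left, ⊤) := fun x => f x.1 ^ (N₀ / n x.1)
  have hg : ∀ x, B.IsInvSection N₀ (g x) := fun x => by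
    have := isInvSection_pow (hf x.1) (N₀ / n x.1)
    rwa [Nat.mul_div_cancel' (hdvd x)] at this
  have hgnv : ∀ x : I, nv (hg x).1 = nv (hf x.1).1 := fun x =>
    TopologicalSpace.Opens.ext (nonvanishing_pow (f x.1) (Nat.div_pos (Nat.le_of_dvd hN₀ (hdvd x)) (hn x.1)))
  have hgaff : ∀ x, IsAffineOpen (nv (hg x).1) := fun x => by rw [hgnv]; exact haff x.1
  choose t ht htgen using fun x : I => exists_gens w hβ h1 hlr (isInvOpen_nv (hg x)) (hgaff x)
  let T := Σ x : I, t x
  choose M₁ hM₁ hext using fun p : T => exists_extension (hg p.1) p.2.1 (ht p.1 p.2.1 p.2.2)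
  let M := (∑ p : T, M₁ p) + 1
  have hM : ∀ p, M₁ p ≤ M := fun p =>
    (Finset.single_le_sum (fun q _ => Nat.zero_le (M₁ q)) (Finset.mem_univ p)).trans (Nat.le_succ _)
  choose F₁ hF₁ hF₁r using fun p => hext p M (hM p)
  let T' := Option (I ⊕ T)
  let e : T' ≃ Fin (Fintype.card (I ⊕ T) + 1) := Fintype.equivFinOfCardEq Fintype.card_option
  let F' : T' → Γ(B.V.left, ⊤) := fun q => q.elim 0 (Sum.elim (fun x => g x ^ M) F₁)
  have hF' : ∀ q, B.IsInvSection (N₀ * M) (F' q) := by
    rintro (_ | x | p)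
    · exact isInvSection_zero _
    · exact isInvSection_pow (hg x) M
    · exact hF₁ p
  let K : Set (Fin (Fintype.card (I ⊕ T) + 1)) := Set.range fun x : I => e (some (Sum.inl x))
  refine ⟨_, N₀ * M, fun j => F' (e.symm j), fun j => hF' _, K, ?_, ?_⟩
  · exact Nat.mul_pos hN₀ (Nat.succ_pos _)
  have hNj : ∀ x : I, Nj (fun j => hF' (e.symm j)) (e (some (Sum.inl x))) = nv (hg x).1 := fun x =>
    TopologicalSpace.Opens.ext (by
      show GLinSh.nonvanishing B.π (F' (e.symm (e (some (Sum.inl x))))) = _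
      rw [e.symm_apply_apply]
      exact nonvanishing_pow (g x) (Nat.succ_pos _))
  refine ⟨⟨?_, ?_⟩, ?_⟩
  · rintro _ ⟨x, rfl⟩
    rw [hNj]
    exact hgaff x
  · rintro _ ⟨x, rfl⟩ s hs
    let hF := fun j => hF' (e.symm j)
    let j := e (some (Sum.inl x))
    let ρ : Γ(X.left, nv (hg x).1) →+* Γ(X.left, Nj hF j) := (X.left.presheaf.map (homOfLE (hNj x).le).op).hom
    have hρ : ρ (X.left.presheaf.map (homOfLE (hNj x).ge).op s) = s := by
      show (X.left.presheaf.map _ ≫ X.left.presheaf.map _) s = s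
      rw [← Functor.map_comp]
      exact ConcreteCategory.congr_hom (X.left.presheaf.map_id _) s
    rw [← hρ]
    refine (Subring.closure_le (t := (Subring.closure _).comap ρ)).2 ?_
      (htgen x _ (hs.res (hNj x).ge))
    rintro _ (⟨c, rfl⟩ | hc)
    · exact Subring.subset_closure (Or.inl ⟨c, (map_const _ c).symm⟩)
    · refine Subring.subset_closure (Or.inr ⟨e (some (Sum.inr ⟨x, _, hc⟩)), (eq_rat hF ?_).symm⟩)
      have k1 := (hF₁r ⟨x, _, hc⟩).res (hNj x).le
      show IsRatio (Nj hF j) 1 1 (F' (e.symm (e (some (Sum.inl x)))))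
        (F' (e.symm (e (some (Sum.inr ⟨x, _, hc⟩))))) _
      rw [e.symm_apply_apply, e.symm_apply_apply]
      exact k1
  · refine TopologicalSpace.Opens.ext ?_
    rw [TopologicalSpace.Opens.coe_iSup]
    refine Set.Subset.antisymm (fun x hx' => ?_) (Set.iUnion_subset ?_)
    · obtain ⟨y, hy, hxy⟩ := Set.mem_iUnion₂.1 (hI hx')
      refine Set.mem_iUnion.2 ⟨⟨_, ⟨⟨y, hy⟩, rfl⟩⟩, ?_⟩
      rw [hNj, hgnv]
      exact hxy
    · rintro ⟨_, x, rfl⟩
      rw [hNj, hgnv, hU]
      exact fun z hz => ⟨n x.1, f x.1, hn x.1, hf x.1, hz, _, rfl, haff x.1⟩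

end GLinShLib
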