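import Groth.Agent.GLinShLib.LinComb
import Groth.Agent.AmpleThLib.CoordApp

/-!
# The morphism to projective space given by invariant sections of one weight
-/

set_option autoImplicit false
set_option backward.isDefEq.respectTransparency false
set_option synthInstance.maxHeartbeats 400000
set_option maxHeartbeats 1000000
set_option linter.style.haveILetI false

universe u

noncomputable section

open CategoryTheory CategoryTheory.Limits MonoidalCategory CartesianMonoidalCategory AlgebraicGeometry Opposite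
  TopologicalSpace
open ChowLib
open scoped MonObj

namespace GLinShLib

theorem pt_appLE {Y : Scheme.{u}} {n : ℕ} (v : Fin (n + 1) → Γ(Y, ⊤)) (j l : Fin (n + 1)) (hu : IsUnit (v j))
    (h : ⊤ ≤ pt v j hu ⁻¹ᵁ Dplus j) :
    (pt v j hu).appLE (Dplus j) ⊤ h (AmpleThLib.cj j l) * v j = v l := by
  have e : (pt v j hu).appLE (Dplus j) ⊤ h (AmpleThLib.cj j l) =
      awayEval v (MvPolynomial.X j) (by simpa using hu) (coordRing j l) :=
    AmpleThLib.toSpecOf_awayι_appLE (gr.{u} n) (X_mem j) one_pos _ h (coordRing j l)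
  rw [e]
  exact awayEval_coord v j l _

variable {S : Scheme.{u}} {G X : Over S} [GrpObj G] {a : AlgGrp.Action G X} {B : GLinSh.LinBun G a}
  {r N : ℕ} {F : Fin (r + 1) → Γ(B.V.left, ⊤)}

/-- The open `X_{F_j}`. -/
abbrev Nj (hF : ∀ j, B.IsInvSection N (F j)) (j : Fin (r + 1)) : X.left.Opens := nv (hF j).1

variable (hF : ∀ j, B.IsInvSection N (F j))

/-- The ratio `F_l / F_j` on `X_{F_j}`. -/
def rat (j l : Fin (r + 1)) : Γ(X.left, Nj hF j) :=
  (exists_ratio' (n := 1) (m := 1) (hF j).1 (hF l).1 rfl).choose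

theorem isRatio_rat (j l : Fin (r + 1)) : IsRatio (Nj hF j) 1 1 (F j) (F l) (rat hF j l) :=
  (exists_ratio' (n := 1) (m := 1) (hF j).1 (hF l).1 rfl).choose_spec

theorem rat_self (j : Fin (r + 1)) : rat hF j j = 1 :=
  IsRatio.unique' (hF j).1 le_rfl (isRatio_rat hF j j) (by unfold IsRatio; rw [map_one, one_mul])

theorem eq_rat {j l : Fin (r + 1)} {h : Γ(X.left, Nj hF j)} (hh : IsRatio (Nj hF j) 1 1 (F j) (F l) h) :
    h = rat hF j l :=
  IsRatio.unique' (hF j).1 le_rfl hh (isRatio_rat hF j l)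

theorem basicOpen_rat (j l : Fin (r + 1)) : X.left.basicOpen (rat hF j l) = Nj hF j ⊓ Nj hF l :=
  basicOpen_ratio' one_ne_zero (hF j).1 (hF l).1 (isRatio_rat hF j l)

theorem rat_change (j j' l : Fin (r + 1)) :
    X.left.presheaf.map (homOfLE (inf_le_left : Nj hF j ⊓ Nj hF j' ≤ Nj hF j)).op (rat hF j l) =
      X.left.presheaf.map (homOfLE (inf_le_right : Nj hF j ⊓ Nj hF j' ≤ Nj hF j')).op (rat hF j' l) *
        X.left.presheaf.map (homOfLE (inf_le_left : Nj hF j ⊓ Nj hF j' ≤ Nj hF j)).op (rat hF j j') := by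
  set O := Nj hF j ⊓ Nj hF j'
  apply appLE_inj (hasWeight_mul (hF j).1 (hF j').1) O (nv_mul (hF j).1 (hF j').1).ge
  set E := B.π.left ⁻¹ᵁ O ⊓ B.V.left.basicOpen (F j * F j')
  have hj : E ≤ B.π.left ⁻¹ᵁ Nj hF j ⊓ B.V.left.basicOpen (F j) := fun v hv => by
    refine ⟨hv.1.1, ?_⟩
    have := hv.2
    rw [SetLike.mem_coe, Scheme.basicOpen_mul] at this
    exact this.1
  have hj' : E ≤ B.π.left ⁻¹ᵁ Nj hF j' ⊓ B.V.left.basicOpen (F j') := fun v hv => by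
    refine ⟨hv.1.2, ?_⟩
    have := hv.2
    rw [SetLike.mem_coe, Scheme.basicOpen_mul] at this
    exact this.2
  let ρ : Γ(B.V.left, ⊤) →+* Γ(B.V.left, E) := (B.V.left.presheaf.map (homOfLE (le_top : E ≤ ⊤)).op).hom
  have conv : ∀ {i : Fin (r + 1)} (hi : E ≤ B.π.left ⁻¹ᵁ Nj hF i ⊓ B.V.left.basicOpen (F i))
      (hiO : O ≤ Nj hF i) (m : Fin (r + 1)),
      B.π.left.appLE O E inf_le_left (X.left.presheaf.map (homOfLE hiO).op (rat hF i m)) * ρ (F i) = ρ (F m) := by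
    intro i hi hiO m
    have e := congrArg (B.V.left.presheaf.map (homOfLE hi).op) (isRatio_rat hF i m)
    rw [map_mul, map_pow, map_pow, pow_one, pow_one] at e
    simp only [← ConcreteCategory.comp_apply, ← Functor.map_comp, Scheme.Hom.appLE_map] at e
    refine Eq.trans ?_ e
    rw [← ConcreteCategory.comp_apply, Scheme.Hom.map_appLE]
    rfl
  have k1 := conv hj inf_le_left l
  have k2 := conv hj inf_le_left j'
  have k3 := conv hj' inf_le_right l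
  have hu : IsUnit (ρ (F j)) := by
    have := isUnit_res_basicOpen (B := B) (f := F j) (n := 1) E (hj.trans inf_le_right)
    rwa [pow_one] at this
  refine hu.mul_left_inj.1 ?_
  rw [map_mul, mul_assoc, k2, k1, k3]

/-- The coordinates on a scheme mapping into `X_{F_j}`. -/
def cv {Z : Scheme.{u}} (u : Z ⟶ X.left) (j : Fin (r + 1)) (h : ⊤ ≤ u ⁻¹ᵁ Nj hF j) : Fin (r + 1) → Γ(Z, ⊤) :=
  fun l => u.appLE (Nj hF j) ⊤ h (rat hF j l)

theorem cv_self {Z : Scheme.{u}} (u : Z ⟶ X.left) (j : Fin (r + 1)) (h : ⊤ ≤ u ⁻¹ᵁ Nj hF j) :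
    cv hF u j h j = 1 := by
  rw [cv, rat_self, map_one]

/-- The point with those coordinates. -/
def cpt {Z : Scheme.{u}} (u : Z ⟶ X.left) (j : Fin (r + 1)) (h : ⊤ ≤ u ⁻¹ᵁ Nj hF j) : Z ⟶ PZ.{u} r :=
  pt (cv hF u j h) j (by rw [cv_self]; exact isUnit_one)

theorem comp_cpt {Z Z' : Scheme.{u}} (q : Z' ⟶ Z) (u : Z ⟶ X.left) (j : Fin (r + 1)) (h : ⊤ ≤ u ⁻¹ᵁ Nj hF j) :
    q ≫ cpt hF u j h = cpt hF (q ≫ u) j (fun _ _ => h trivial) := by
  rw [cpt, comp_pt]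
  unfold cpt
  congr 1
  funext l
  simp only [cv, Scheme.Hom.appTop, Scheme.Hom.app_eq_appLE]
  rw [← ConcreteCategory.comp_apply, Scheme.Hom.appLE_comp_appLE]
  rfl

theorem cpt_congr {Z : Scheme.{u}} {u u' : Z ⟶ X.left} (e : u = u') (j : Fin (r + 1)) (h : ⊤ ≤ u ⁻¹ᵁ Nj hF j) :
    cpt hF u j h = cpt hF u' j (e ▸ h) := by
  subst e; rfl

theorem cpt_change {Z : Scheme.{u}} (u : Z ⟶ X.left) (j j' : Fin (r + 1)) (h : ⊤ ≤ u ⁻¹ᵁ Nj hF j)
    (h' : ⊤ ≤ u ⁻¹ᵁ Nj hF j') : cpt hF u j h = cpt hF u j' h' := by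
  have hO : ⊤ ≤ u ⁻¹ᵁ (Nj hF j ⊓ Nj hF j') := fun z hz => ⟨h hz, h' hz⟩
  have e : ∀ {i : Fin (r + 1)} (hi : ⊤ ≤ u ⁻¹ᵁ Nj hF i) (hiO : Nj hF j ⊓ Nj hF j' ≤ Nj hF i) (m : Fin (r + 1)),
      cv hF u i hi m = u.appLE _ ⊤ hO (X.left.presheaf.map (homOfLE hiO).op (rat hF i m)) := by
    intro i hi hiO m
    rw [← ConcreteCategory.comp_apply, Scheme.Hom.map_appLE]
    rfl
  have hk : IsUnit (cv hF u j h j') := by
    refine IsUnit.of_mul_eq_one (cv hF u j' h' j) ?_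
    rw [e h inf_le_left j', e h' inf_le_right j, ← map_mul, mul_comm, ← rat_change, rat_self, map_one, map_one]
  refine pt_eq_of_prop _ _ _ _ _ _ hk fun l => ?_
  rw [cv_self, mul_one, e h inf_le_left l, e h' inf_le_right l, e h inf_le_left j', ← map_mul, ← rat_change]

theorem cpt_preimage {Z : Scheme.{u}} (u : Z ⟶ X.left) (j : Fin (r + 1)) (h : ⊤ ≤ u ⁻¹ᵁ Nj hF j)
    (l : Fin (r + 1)) : cpt hF u j h ⁻¹ᵁ Dplus l = u ⁻¹ᵁ Nj hF l := by
  rw [cpt, pt_preimage, cv, Scheme.basicOpen_appLE, basicOpen_rat, Scheme.Hom.preimage_inf]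
  ext z
  exact ⟨fun hz => hz.2.2, fun hz => ⟨trivial, h trivial, hz⟩⟩

theorem cpt_appLE {Z : Scheme.{u}} (u : Z ⟶ X.left) (j : Fin (r + 1)) (h : ⊤ ≤ u ⁻¹ᵁ Nj hF j)
    (h' : ⊤ ≤ cpt hF u j h ⁻¹ᵁ Dplus j) (l : Fin (r + 1)) :
    (cpt hF u j h).appLE (Dplus j) ⊤ h' (AmpleThLib.cj j l) = u.appLE (Nj hF j) ⊤ h (rat hF j l) := by
  have := pt_appLE (cv hF u j h) j l (by rw [cv_self]; exact isUnit_one) h'
  simp only [cv_self, mul_one] at this
  exact this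

variable (K : Set (Fin (r + 1))) {U : X.left.Opens} (hU : U = ⨆ j : K, Nj hF j.1)

/-- The cover of `U` by the `X_{F_j}`. -/
def qCover : U.toScheme.OpenCover :=
  Scheme.Cover.mkOfCovers K (fun j => (U.ι ⁻¹ᵁ Nj hF j.1).toScheme) (fun j => (U.ι ⁻¹ᵁ Nj hF j.1).ι)
    (fun x => by
      obtain ⟨j, hj⟩ := Opens.mem_iSup.1 (hU.le x.2)
      exact ⟨j, ⟨x, hj⟩, rfl⟩)
    (fun _ => by infer_instance)

/-- The morphism `U ⟶ P^r`. -/
def toP : U.toScheme ⟶ PZ.{u} r :=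
  (qCover hF K hU).glueMorphisms
    (fun j => cpt hF ((U.ι ⁻¹ᵁ Nj hF j.1).ι ≫ U.ι) j.1 (fun z _ => z.2))
    (fun i j => by
      refine (comp_cpt hF _ _ _ _).trans (Eq.trans ?_ (comp_cpt hF _ _ _ _).symm)
      refine (cpt_change hF _ _ j.1 _ ?_).trans (cpt_congr hF ?_ _ _)
      · intro z _
        show (pullback.fst ((qCover hF K hU).f i) ((qCover hF K hU).f j) ≫ (qCover hF K hU).f i ≫ U.ι) z ∈ Nj hF j.1
        rw [pullback.condition_assoc]
        exact (pullback.snd ((qCover hF K hU).f i) ((qCover hF K hU).f j) z).2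
      · exact pullback.condition_assoc U.ι)

theorem comp_toP {Z : Scheme.{u}} (q : Z ⟶ U.toScheme) {j : Fin (r + 1)} (hj : j ∈ K)
    (h : ⊤ ≤ (q ≫ U.ι) ⁻¹ᵁ Nj hF j) : q ≫ toP hF K hU = cpt hF (q ≫ U.ι) j h := by
  have hr : Set.range q ⊆ Set.range (U.ι ⁻¹ᵁ Nj hF j).ι := by
    rintro _ ⟨z, rfl⟩
    rw [Scheme.Opens.range_ι]
    exact h (show z ∈ (⊤ : Z.Opens) from trivial)
  have e : IsOpenImmersion.lift (U.ι ⁻¹ᵁ Nj hF j).ι q hr ≫ (U.ι ⁻¹ᵁ Nj hF j).ι = q := IsOpenImmersion.lift_fac _ _ _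
  calc q ≫ toP hF K hU
      = IsOpenImmersion.lift (U.ι ⁻¹ᵁ Nj hF j).ι q hr ≫ (qCover hF K hU).f ⟨j, hj⟩ ≫ toP hF K hU := by
        rw [← Category.assoc]; exact congrArg (· ≫ _) e.symm
    _ = _ := by
        rw [toP, Scheme.Cover.ι_glueMorphisms, comp_cpt]
        exact cpt_congr hF (by rw [reassoc_of% e]) _ _

theorem toP_preimage (l : Fin (r + 1)) : toP hF K hU ⁻¹ᵁ Dplus l = U.ι ⁻¹ᵁ Nj hF l := by
  ext x
  obtain ⟨j, hj⟩ := Opens.mem_iSup.1 (hU.le x.2)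
  let O := U.ι ⁻¹ᵁ Nj hF j.1
  let z : O.toScheme := ⟨x, hj⟩
  have := congrArg (fun q : O.toScheme ⟶ PZ.{u} r => z ∈ q ⁻¹ᵁ Dplus l)
    (comp_toP hF K hU O.ι j.2 (fun z _ => z.2))
  simp only [cpt_preimage, eq_iff_iff] at this
  exact this

end GLinShLib
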