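import Groth.Agent.GLinShLib.Section
import Mathlib.GroupTheory.CosetCover

/-!
# Linear combinations of invariant sections of one weight
-/

set_option autoImplicit false
set_option backward.isDefEq.respectTransparency false
set_option synthInstance.maxHeartbeats 400000
set_option maxHeartbeats 1000000
set_option linter.style.haveILetI false

universe u

noncomputable section

open CategoryTheory CategoryTheory.Limits MonoidalCategory CartesianMonoidalCategory AlgebraicGeometry Opposite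
  TopologicalSpace
open scoped MonObj

namespace GLinShLib

variable {k : Type u} [Field k] {G X : Over (Spec (CommRingCat.of k))} [GrpObj G] {a : AlgGrp.Action G X}
  {B : GLinSh.LinBun G a}

/-- Constants on a scheme over `k`. -/
def const (Z : Over (Spec (CommRingCat.of k))) (U : Z.left.Opens) : k →+* Γ(Z.left, U) :=
  (Z.hom.appLE ⊤ U le_top).hom.comp (Scheme.ΓSpecIso (CommRingCat.of k)).inv.hom

theorem appLE_const {Z Z' : Over (Spec (CommRingCat.of k))} (q : Z' ⟶ Z) (U : Z.left.Opens) (U' : Z'.left.Opens)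
    (e : U' ≤ q.left ⁻¹ᵁ U) (c : k) : q.left.appLE U U' e (const Z U c) = const Z' U' c := by
  simp only [const, RingHom.comp_apply]
  rw [← ConcreteCategory.comp_apply, Scheme.Hom.appLE_comp_appLE]
  simp only [Over.w q]

theorem map_const {Z : Over (Spec (CommRingCat.of k))} {U U' : Z.left.Opens} (h : U' ≤ U) (c : k) :
    Z.left.presheaf.map (homOfLE h).op (const Z U c) = const Z U' c := by
  simp only [const, RingHom.comp_apply]
  rw [← ConcreteCategory.comp_apply, Scheme.Hom.appLE_map]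

theorem isInvSection_zero (n : ℕ) : B.IsInvSection n 0 :=
  ⟨fun U y _ => ⟨0, by rw [GLinSh.resTop, map_zero, map_zero, zero_mul]⟩,
    by rw [GLinSh.IsInvFn, map_zero, map_zero]⟩

theorem isInvSection_add {n : ℕ} {f g : Γ(B.V.left, ⊤)} (hf : B.IsInvSection n f) (hg : B.IsInvSection n g) :
    B.IsInvSection n (f + g) := by
  refine ⟨fun U y hy => ?_, by rw [GLinSh.IsInvFn, map_add, map_add, hf.2, hg.2]⟩
  obtain ⟨c, hc⟩ := hf.1 U y hy
  obtain ⟨d, hd⟩ := hg.1 U y hy
  refine ⟨c + d, ?_⟩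
  simp only [GLinSh.resTop, map_add] at hc hd ⊢
  rw [hc, hd]
  ring

theorem isInvSection_const_mul {n : ℕ} {f : Γ(B.V.left, ⊤)} (hf : B.IsInvSection n f) (c : k) :
    B.IsInvSection n (const B.V ⊤ c * f) := by
  refine ⟨fun U y hy => ?_, ?_⟩
  · obtain ⟨d, hd⟩ := hf.1 U y hy
    refine ⟨const X U c * d, ?_⟩
    simp only [GLinSh.resTop, map_mul] at hd ⊢
    rw [hd, map_const, Scheme.Hom.app_eq_appLE, appLE_const]
    ring
  · rw [GLinSh.IsInvFn, map_mul, map_mul, hf.2]
    congr 1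
    simp only [Scheme.Hom.appTop, Scheme.Hom.app_eq_appLE]
    exact (appLE_const _ ⊤ _ _ c).trans (appLE_const _ ⊤ _ _ c).symm

/-- A linear combination. -/
def lin {κ : Type*} [Fintype κ] (c : κ → k) (g : κ → Γ(B.V.left, ⊤)) : Γ(B.V.left, ⊤) :=
  ∑ i, const B.V ⊤ (c i) * g i

theorem isInvSection_lin {κ : Type*} [Fintype κ] {n : ℕ} {g : κ → Γ(B.V.left, ⊤)}
    (hg : ∀ i, B.IsInvSection n (g i)) (c : κ → k) : B.IsInvSection n (lin c g) :=
  Finset.sum_induction _ (B.IsInvSection n) (fun _ _ => isInvSection_add) (isInvSection_zero n)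
    fun i _ => isInvSection_const_mul (hg i) (c i)

theorem isRatio_lin {κ : Type*} [Fintype κ] {O : X.left.Opens} {g : κ → Γ(B.V.left, ⊤)} {f : Γ(B.V.left, ⊤)}
    {h : κ → Γ(X.left, O)} (hh : ∀ i, IsRatio O 1 1 f (g i) (h i)) (c : κ → k) :
    IsRatio O 1 1 f (lin c g) (∑ i, const X O (c i) * h i) := by
  unfold IsRatio at hh ⊢
  simp only [pow_one] at hh ⊢
  simp only [lin, map_sum, map_mul, Finset.sum_mul]
  refine Finset.sum_congr rfl fun i _ => ?_
  rw [← hh i, appLE_const, map_const, mul_assoc]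

theorem nv_congr {n : ℕ} {f : Γ(B.V.left, ⊤)} (hf : GLinSh.HasWeight B.atlas.chart n f) (U : X.left.Opens)
    (hU : (U : Set X.left) = GLinSh.nonvanishing B.π f) : U = nv hf :=
  TopologicalSpace.Opens.ext hU

/-- A general combination does not vanish at finitely many points of the union of the loci. -/
theorem exists_lin_mem [Infinite k] {κ : Type*} [Fintype κ] {N : ℕ} {g : κ → Γ(B.V.left, ⊤)}
    (hg : ∀ i, B.IsInvSection N (g i)) (s : Finset X.left) (hs : ∀ x ∈ s, ∃ i, x ∈ nv (hg i).1) :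
    ∃ c : κ → k, ∀ x ∈ s, x ∈ nv (isInvSection_lin hg c).1 := by
  classical
  by_contra hne
  simp only [not_exists, not_forall] at hne
  choose j hj using fun x : s => hs x.1 x.2
  choose h hh using fun (x : s) (i : κ) =>
    exists_ratio' (n := 1) (m := 1) (hg (j x)).1 (hg i).1 (rfl : N * 1 = N * 1)
  let ev : ∀ x : s, (κ → k) → X.left.residueField x.1 := fun x c =>
    X.left.evaluation (nv (hg (j x)).1) x.1 (hj x) (∑ i, const X _ (c i) * h x i)
  let P : s → Subspace k (κ → k) := fun x =>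
    { carrier := {c | ev x c = 0}
      add_mem' := fun {c d} hc hd => by
        show ev x (c + d) = 0
        simp only [ev, Pi.add_apply, map_add, add_mul, Finset.sum_add_distrib] at hc hd ⊢
        rw [hc, hd, add_zero]
      zero_mem' := by
        show ev x 0 = 0
        simp [ev]
      smul_mem' := fun r c hc => by
        show ev x (r • c) = 0
        simp only [ev, Pi.smul_apply, smul_eq_mul, map_mul, mul_assoc, ← Finset.mul_sum] at hc ⊢
        rw [hc, mul_zero] }
  have hiff : ∀ (x : s) c, c ∈ P x ↔ x.1 ∉ nv (isInvSection_lin hg c).1 := by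
    intro x c
    show ev x c = 0 ↔ _
    rw [Scheme.evaluation_eq_zero_iff_notMem_basicOpen,
      basicOpen_ratio' one_ne_zero (hg (j x)).1 (isInvSection_lin hg c).1 (isRatio_lin (hh x) c)]
    exact not_congr ⟨fun h => h.2, fun h => ⟨hj x, h⟩⟩
  have hcov : ⋃ x : s, (P x : Set (κ → k)) = Set.univ := Set.eq_univ_of_forall fun c => by
    obtain ⟨x, hx, hxc⟩ := hne c
    exact Set.mem_iUnion.2 ⟨⟨x, hx⟩, (hiff _ c).2 hxc⟩
  obtain ⟨x, hx⟩ := Subspace.exists_eq_top_of_iUnion_eq_univ hcov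
  have h1 : Pi.single (j x) (1 : k) ∈ P x := by rw [hx]; exact Submodule.mem_top
  refine (hiff x _).1 h1 ?_
  have e : lin (Pi.single (j x) (1 : k)) g = g (j x) := by
    rw [lin, Finset.sum_eq_single (j x) (fun i _ hi => by rw [Pi.single_eq_of_ne hi, map_zero, zero_mul])
      (fun h => absurd (Finset.mem_univ _) h), Pi.single_eq_same, map_one, one_mul]
  show x.1 ∈ GLinSh.nonvanishing B.π (lin _ g)
  rw [e]
  exact hj x

theorem nv_lin_le {κ : Type*} [Fintype κ] {N : ℕ} {g : κ → Γ(B.V.left, ⊤)}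
    (hg : ∀ i, B.IsInvSection N (g i)) (c : κ → k) :
    nv (isInvSection_lin hg c).1 ≤ ⨆ i, nv (hg i).1 := by
  intro x hx
  by_contra hne
  obtain ⟨v, hv, rfl⟩ := hx
  rw [SetLike.mem_coe, B.V.left.mem_basicOpen_top, lin, map_sum] at hv
  refine hne (Opens.mem_iSup.2 ?_)
  by_contra hall
  simp only [not_exists] at hall
  have hg' : ∀ i, B.V.left.presheaf.germ ⊤ v trivial (g i) ∈ IsLocalRing.maximalIdeal _ := fun i h => by
    exact hall i ⟨v, (B.V.left.mem_basicOpen_top _ v).2 h, rfl⟩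
  refine (IsLocalRing.mem_maximalIdeal _).1 ?_ hv
  exact Ideal.sum_mem _ fun i _ => by rw [map_mul]; exact Ideal.mul_mem_left _ _ (hg' i)

/-- A combination of sections with affine loci has affine locus. -/
theorem isAffineOpen_nv_lin {κ : Type*} [Fintype κ] {N : ℕ} {g : κ → Γ(B.V.left, ⊤)}
    (hg : ∀ i, B.IsInvSection N (g i)) (haff : ∀ i, IsAffineOpen (nv (hg i).1)) (c : κ → k) :
    IsAffineOpen (nv (isInvSection_lin hg c).1) := by
  classical
  set f := lin c g
  have hf := isInvSection_lin hg c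
  choose h hh using fun i => exists_ratio' (n := 1) (m := 1) hf.1 (hg i).1 (rfl : N * 1 = N * 1)
  have h1 : (1 : Γ(X.left, nv hf.1)) = ∑ i, const X _ (c i) * h i := by
    refine IsRatio.unique' hf.1 le_rfl (?_ : IsRatio (nv hf.1) 1 1 f f 1) (isRatio_lin hh c)
    unfold IsRatio
    rw [map_one, one_mul]
  refine isAffineOpen_of_isAffineOpen_basicOpen (nv hf.1) (Set.range h) ?_ ?_
  · rw [Ideal.eq_top_iff_one, h1]
    exact Ideal.sum_mem _ fun i _ => Ideal.mul_mem_left _ _ (Ideal.subset_span ⟨i, rfl⟩)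
  · rintro _ ⟨i, rfl⟩
    rw [basicOpen_ratio' one_ne_zero hf.1 (hg i).1 (hh i)]
    obtain ⟨h', hh'⟩ := exists_ratio' (n := 1) (m := 1) (hg i).1 hf.1 (rfl : N * 1 = N * 1)
    rw [inf_comm, ← basicOpen_ratio' one_ne_zero (hg i).1 hf.1 hh']
    exact (haff i).basicOpen _

/-- Closedness of orbits is local. -/
theorem closedOrbitsOn_of_le_iSup {κ : Type*} {U : X.left.Opens} {W : κ → X.left.Opens}
    (hW : ∀ i, GLinSh.ClosedOrbitsOn a (W i)) (hinv : ∀ i, IsInvOpen a (W i)) (hU : U ≤ ⨆ i, W i) : GLinSh.ClosedOrbitsOn a U := by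
  intro Ω _ _ T eT f hf
  refine isOpen_compl_iff.1 (isOpen_iff_forall_mem_open.2 fun p hp => ?_)
  obtain ⟨i, hi⟩ := Opens.mem_iSup.1 (hU p.2)
  by_cases hfW : Set.range f.left.base ⊆ (W i : Set X.left)
  · have hc := hW i Ω T eT f hfW
    obtain ⟨O, hO, hO'⟩ := isOpen_induced_iff.1 hc.isOpen_compl
    refine ⟨Subtype.val ⁻¹' (O ∩ ((fst X T).left ⁻¹ᵁ W i : (X ⊗ T).left.Opens)), ?_,
      (hO.inter ((fst X T).left ⁻¹ᵁ W i).isOpen).preimage continuous_subtype_val, ?_, hi⟩
    · rintro q ⟨hq, hqW⟩ hqr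
      exact hO'.subset (show (⟨q.1, hqW⟩ : (fst X T).left ⁻¹ᵁ W i) ∈ Subtype.val ⁻¹' O from hq) hqr
    · exact hO'.ge (show (⟨p.1, hi⟩ : (fst X T).left ⁻¹ᵁ W i) ∈ _ from hp)
  · refine ⟨Subtype.val ⁻¹' ((fst X T).left ⁻¹ᵁ W i : (X ⊗ T).left.Opens), ?_,
      ((fst X T).left ⁻¹ᵁ W i).isOpen.preimage continuous_subtype_val, hi⟩
    rintro ⟨q, hqU⟩ hqW ⟨z, hz⟩
    refine hfW ?_
    have h1 : (GIT.psi a f ≫ fst X T).left z ∈ W i := by
      rw [Over.comp_left, Scheme.Hom.comp_apply]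
      exact hz ▸ hqW
    rw [GIT.psi, lift_fst] at h1
    have h2 : (G ◁ f).left z ∈ (snd G X).left ⁻¹ᵁ W i := (hinv i).le h1
    have h3 : (snd G T ≫ f).left z ∈ W i := by
      rw [← whiskerLeft_snd]
      exact h2
    rintro _ ⟨t, rfl⟩
    haveI : Subsingleton T.left :=
      haveI : Subsingleton (Spec (CommRingCat.of Ω)) := inferInstanceAs (Subsingleton (PrimeSpectrum Ω))
      (Scheme.homeoOfIso eT).injective.subsingleton
    rw [Subsingleton.elim t ((snd G T).left z)]
    exact h3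

end GLinShLib
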