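import Groth.Agent.GLinShLib.Coords
import Groth.Agent.GITAffLib.Local
import Groth.Agent.AmpleThLib.VeryAmple
import Groth.Agent.AmpleDevLib.Pull

/-!
# The quotient of the union of the affine loci of invariant sections
-/

set_option autoImplicit false
set_option backward.isDefEq.respectTransparency false
set_option synthInstance.maxHeartbeats 400000
set_option maxHeartbeats 2000000
set_option linter.style.haveILetI false

universe u

noncomputable section

open CategoryTheory CategoryTheory.Limits MonoidalCategory CartesianMonoidalCategory AlgebraicGeometry Opposite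
  TopologicalSpace
open ChowLib CoactBr
open scoped MonObj

namespace GLinShLib

theorem cpt_ext {S : Scheme.{u}} {G X : Over S} [GrpObj G] {a : AlgGrp.Action G X} {B : GLinSh.LinBun G a}
    {r N : ℕ} {F : Fin (r + 1) → Γ(B.V.left, ⊤)} (hF : ∀ j, B.IsInvSection N (F j)) {Z : Scheme.{u}}
    (u u' : Z ⟶ X.left) (j : Fin (r + 1)) (h : ⊤ ≤ u ⁻¹ᵁ Nj hF j) (h' : ⊤ ≤ u' ⁻¹ᵁ Nj hF j)
    (e : ∀ l, u.appLE (Nj hF j) ⊤ h (rat hF j l) = u'.appLE (Nj hF j) ⊤ h' (rat hF j l)) :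
    cpt hF u j h = cpt hF u' j h' := by
  unfold cpt
  congr 1
  exact funext e

theorem twistProjSpace_isInvertible (n : ℕ) : PicF.IsInvertible (Twist.twistProjSpace n Z.{u} 1) :=
  TwistLib.twist_isInvertible (gr.{u} n)
    (top_le_iff.1 (le_of_eq_of_le iSup_Dplus.symm
      (iSup_le fun i => le_iSup_of_le (⟨MvPolynomial.X i, X_mem i⟩ : gr.{u} n 1) le_rfl))) 1

variable {k : Type u} [Field k] {A : Type u} [CommRing A] [HopfAlgebra k A]
  {G X : Over (Spec (CommRingCat.of k))} [GrpObj G]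

/-- After every affine base change the morphism is a good affine quotient. -/
def IsUnivGood (w : sp k A ⟶ G) [IsMonHom w] [IsIso w] (β : A →ₗ[k] k) {X Y : Over (Spec (CommRingCat.of k))}
    (a : AlgGrp.Action G X) (φ : X ⟶ Y) : Prop :=
  ∀ ⦃X₁ U' : Over (Spec (CommRingCat.of k))⦄ [IsAffine U'.left] ⦃pr₁ : X₁ ⟶ X⦄ ⦃φ₁ : X₁ ⟶ U'⦄ ⦃g₁ : U' ⟶ Y⦄,
    IsPullback pr₁ φ₁ φ g₁ → ∀ a₁ : AlgGrp.Action G X₁, a₁.act ≫ pr₁ = (G ◁ pr₁) ≫ a.act →
      GIT.IsInvariant a₁ φ₁ → GITAffLib.IsGood w a₁ φ₁ β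

variable {a : AlgGrp.Action G X} {B : GLinSh.LinBun G a}

/-- Invariant functions on an invariant open. -/
def IsInvFun {O : X.left.Opens} (hO : IsInvOpen a O) (s : Γ(X.left, O)) : Prop :=
  a.act.left.appLE O ((snd G X).left ⁻¹ᵁ O) hO.ge s = (snd G X).left.appLE O ((snd G X).left ⁻¹ᵁ O) le_rfl s

variable {r N : ℕ} {F : Fin (r + 1) → Γ(B.V.left, ⊤)}

/-- The sections `F_j`, `j ∈ K`, have affine loci with invariants generated by ratios. -/
structure IsQuotData (hF : ∀ j, B.IsInvSection N (F j)) (K : Set (Fin (r + 1))) : Prop where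
  aff : ∀ j ∈ K, IsAffineOpen (Nj hF j)
  gen : ∀ j ∈ K, ∀ s : Γ(X.left, Nj hF j), IsInvFun (isInvOpen_nv (hF j)) s →
    s ∈ Subring.closure (Set.range (const X (Nj hF j)) ∪ Set.range (rat hF j))

variable {hF : ∀ j, B.IsInvSection N (F j)} {K : Set (Fin (r + 1))}

theorem exists_quot (w : sp k A ⟶ G) [IsMonHom w] [IsIso w] {β : A →ₗ[k] k} (hβ : ComodLib.IsInvariant β)
    (h1 : β 1 = 1) [LocallyOfFiniteType X.hom] (hD : IsQuotData hF K) {U : X.left.Opens}
    (hU : U = ⨆ j : K, Nj hF j.1) (aU : AlgGrp.Action G (openObj U))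
    (he : aU.act ≫ openHom U = (G ◁ openHom U) ≫ a.act) :
    ∃ (Y : Over (Spec (CommRingCat.of k))) (φ : openObj U ⟶ Y), GIT.IsInvariant aU φ ∧ IsAffineHom φ.left ∧
      IsUnivGood w β aU φ ∧ IsSeparated Y.hom ∧ LocallyOfFiniteType Y.hom ∧
      (∀ j ∈ K, ∃ V : Y.left.Opens, IsAffineOpen V ∧ φ.left ⁻¹ᵁ V = U.ι ⁻¹ᵁ Nj hF j) ∧
      ∃ M : Y.left.Modules, CohB1.IsAmple M := by
  classical
  let S₀ := Spec (CommRingCat.of k)
  let f := toP hF K hU
  let i₀ : U.toScheme ⟶ CohB1.ProjSpaceOver r S₀ := poLift f (U.ι ≫ X.hom)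
  let P₀ : (CohB1.ProjSpaceOver r S₀).Opens := ⨆ j : K, AmpleThLib.Pk S₀ j.1
  have hr₀ : Set.range i₀ ⊆ Set.range P₀.ι := by
    rintro _ ⟨x, rfl⟩
    rw [Scheme.Opens.range_ι]
    obtain ⟨j, hj⟩ := Opens.mem_iSup.1 (hU.le x.2)
    refine Opens.mem_iSup.2 ⟨j, ?_⟩
    show (i₀ ≫ toPZ r S₀) x ∈ Dplus j.1
    rw [poLift_toPZ]
    exact (toP_preimage hF K hU j.1).ge hj
  let ψ := IsOpenImmersion.lift P₀.ι i₀ hr₀
  have hψ : ψ ≫ P₀.ι = i₀ := IsOpenImmersion.lift_fac _ _ _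
  have hle : ∀ j ∈ K, Nj hF j ≤ U := fun j hj => by
    rw [hU]; exact le_iSup (fun j : K => Nj hF j.1) ⟨j, hj⟩
  have haffO : ∀ j ∈ K, IsAffineOpen (U.ι ⁻¹ᵁ Nj hF j) := fun j hj =>
    (hD.aff j hj).preimage_of_isOpenImmersion U.ι (by rw [Scheme.Opens.opensRange_ι]; exact hle j hj)
  haveI : CompactSpace U.toScheme := by
    have : IsCompact (U : Set X.left) := by
      rw [hU, Opens.coe_iSup]
      exact isCompact_iUnion fun j => (hD.aff j.1 j.2).isCompact
    exact isCompact_iff_compactSpace.1 this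
  haveI : QuasiCompact ψ := by
    haveI : QuasiCompact (ψ ≫ P₀.ι ≫ CohB1.ProjSpaceOver.toBase r S₀) :=
      (HasAffineProperty.iff_of_isAffine (P := @QuasiCompact)).2 ‹CompactSpace U.toScheme›
    exact QuasiCompact.of_comp ψ (P₀.ι ≫ CohB1.ProjSpaceOver.toBase r S₀)
  let Y : Over S₀ := Over.mk (ψ.imageι ≫ P₀.ι ≫ CohB1.ProjSpaceOver.toBase r S₀)
  let τ : Y.left ⟶ PZ.{u} r := ψ.imageι ≫ P₀.ι ≫ toPZ r S₀
  let φ : openObj U ⟶ Y := Over.homMk ψ.toImage (by
    show ψ.toImage ≫ ψ.imageι ≫ P₀.ι ≫ CohB1.ProjSpaceOver.toBase r S₀ = U.ι ≫ X.hom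
    rw [Scheme.Hom.toImage_imageι_assoc, reassoc_of% hψ, poLift_toBase])
  have hφτ : φ.left ≫ τ = f := by
    show ψ.toImage ≫ ψ.imageι ≫ P₀.ι ≫ toPZ r S₀ = f
    rw [Scheme.Hom.toImage_imageι_assoc, reassoc_of% hψ, poLift_toPZ]
  let V : Fin (r + 1) → Y.left.Opens := fun j => τ ⁻¹ᵁ Dplus j
  have hφV : ∀ j, φ.left ⁻¹ᵁ V j = U.ι ⁻¹ᵁ Nj hF j := fun j => by
    show (φ.left ≫ τ) ⁻¹ᵁ Dplus j = _
    rw [hφτ]
    exact toP_preimage hF K hU j
  have hQ : ∀ j ∈ K, IsAffineOpen (P₀.ι ⁻¹ᵁ AmpleThLib.Pk S₀ j) := fun j hj =>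
    (AmpleThLib.isAffineOpen_Pk S₀ j).preimage_of_isOpenImmersion P₀.ι (by
      rw [Scheme.Opens.opensRange_ι]; exact le_iSup (fun j : K => AmpleThLib.Pk S₀ j.1) ⟨j, hj⟩)
  have hVaff : ∀ j ∈ K, IsAffineOpen (V j) := fun j hj => (hQ j hj).preimage ψ.imageι
  have hVcov : ∀ y : Y.left, ∃ j : K, y ∈ V j.1 := fun y => by
    obtain ⟨j, hj⟩ := Opens.mem_iSup.1 (ψ.imageι y).2
    exact ⟨j, hj⟩
  haveI : IsAffineHom φ.left := by
    refine (IsZariskiLocalAtTarget.iff_of_iSup_eq_top (P := @IsAffineHom) (fun j : K => V j.1) ?_).2 fun j => ?_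
    · exact top_le_iff.1 fun y _ => Opens.mem_iSup.2 (hVcov y)
    · haveI : IsAffine (V j.1).toScheme := hVaff j.1 j.2
      haveI : IsAffine (φ.left ⁻¹ᵁ V j.1).toScheme := by rw [hφV]; exact haffO j.1 j.2
      exact isAffineHom_of_isAffine _
  have hinv : GIT.IsInvariant aU φ := by
    show aU.act ≫ φ = snd G (openObj U) ≫ φ
    refine Over.OverMorphism.ext ?_
    show aU.act.left ≫ ψ.toImage = (snd G (openObj U)).left ≫ ψ.toImage
    rw [← cancel_mono ψ.imageι, ← cancel_mono P₀.ι]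
    simp only [Category.assoc, Scheme.Hom.toImage_imageι_assoc, hψ]
    refine po_ext ?_ ?_
    · simp only [Category.assoc, i₀, poLift_toPZ]
      let Q := (G ⊗ openObj U).left
      let cov : Q.OpenCover := Scheme.Cover.mkOfCovers K
        (fun j => ((snd G (openObj U)).left ⁻¹ᵁ (U.ι ⁻¹ᵁ Nj hF j.1)).toScheme)
        (fun j => ((snd G (openObj U)).left ⁻¹ᵁ (U.ι ⁻¹ᵁ Nj hF j.1)).ι)
        (fun p => by
          obtain ⟨j, hj⟩ := Opens.mem_iSup.1 (hU.le ((snd G (openObj U)).left p).2)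
          exact ⟨j, ⟨p, hj⟩, rfl⟩)
        (fun _ => by infer_instance)
      refine Scheme.Cover.hom_ext cov _ _ fun j => ?_
      let W := (snd G (openObj U)).left ⁻¹ᵁ (U.ι ⁻¹ᵁ Nj hF j.1)
      show W.ι ≫ aU.act.left ≫ f = W.ι ≫ (snd G (openObj U)).left ≫ f
      let v : W.toScheme ⟶ (G ⊗ X).left := W.ι ≫ (G ◁ openHom U).left
      have e1 : (W.ι ≫ aU.act.left) ≫ U.ι = v ≫ a.act.left := by
        rw [Category.assoc, Category.assoc]
        exact congrArg (W.ι ≫ ·) (congrArg CommaMorphism.left he)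
      have e2 : (W.ι ≫ (snd G (openObj U)).left) ≫ U.ι = v ≫ (snd G X).left := by
        rw [Category.assoc, Category.assoc]
        exact congrArg (W.ι ≫ ·) (congrArg CommaMorphism.left (whiskerLeft_snd G (openHom U))).symm
      have hv : ⊤ ≤ v ⁻¹ᵁ ((snd G X).left ⁻¹ᵁ Nj hF j.1) := fun z _ => by
        show (v ≫ (snd G X).left) z ∈ Nj hF j.1
        rw [← e2]
        exact z.2
      have h2 : ⊤ ≤ ((W.ι ≫ (snd G (openObj U)).left) ≫ U.ι) ⁻¹ᵁ Nj hF j.1 := fun z _ => z.2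
      have h1' : ⊤ ≤ ((W.ι ≫ aU.act.left) ≫ U.ι) ⁻¹ᵁ Nj hF j.1 := fun z hz => by
        show ((W.ι ≫ aU.act.left) ≫ U.ι) z ∈ Nj hF j.1
        rw [e1]
        exact (isInvOpen_nv (hF j.1)).ge (hv hz)
      refine ((Category.assoc _ _ _).symm.trans (comp_toP hF K hU _ j.2 h1')).trans
        (Eq.trans ?_ ((Category.assoc _ _ _).symm.trans (comp_toP hF K hU _ j.2 h2)).symm)
      rw [cpt_congr hF e1, cpt_congr hF e2]
      refine cpt_ext hF _ _ _ _ _ fun l => ?_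
      have := congrArg (v.appLE _ ⊤ hv) (ratio_invariant' (hF j.1) (hF l) (isRatio_rat hF j.1 l))
      rwa [← ConcreteCategory.comp_apply, ← ConcreteCategory.comp_apply, Scheme.Hom.appLE_comp_appLE,
        Scheme.Hom.appLE_comp_appLE] at this
    · simp only [Category.assoc, i₀, poLift_toBase]
      exact (Over.w aU.act).trans (Over.w (snd G (openObj U))).symm
  haveI : CompactSpace Y.left := by
    refine ⟨?_⟩
    have : (Set.univ : Set Y.left) = ⋃ j : K, (V j.1 : Set Y.left) :=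
      (Set.eq_univ_of_forall fun y => Set.mem_iUnion.2 (hVcov y)).symm
    rw [this]
    exact isCompact_iUnion fun j => (hVaff j.1 j.2).isCompact
  refine ⟨Y, φ, hinv, inferInstance, ?_, ?_, ?_, fun j hj => ⟨V j, hVaff j hj, hφV j⟩, ?_⟩
  · -- good on the charts
    choose ai hai using fun j : K => exists_action (isInvOpen_nv (hF j.1))
    let pr : ∀ j : K, openObj (Nj hF j.1) ⟶ openObj U := fun j =>
      Over.homMk (X.left.homOfLE (hle j.1 j.2)) (by
        show X.left.homOfLE _ ≫ U.ι ≫ X.hom = _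
        rw [Scheme.homOfLE_ι_assoc]
        rfl)
    have hpr : ∀ j, pr j ≫ openHom U = openHom (Nj hF j.1) := fun j =>
      Over.OverMorphism.ext (Scheme.homOfLE_ι X.left (hle j.1 j.2))
    let g : ∀ j : K, openObj (V j.1) ⟶ Y := fun j => openHom (V j.1)
    have hrange : ∀ j : K, Set.range ((pr j).left ≫ φ.left) ⊆ Set.range (V j.1).ι := by
      rintro j _ ⟨x, rfl⟩
      rw [Scheme.Opens.range_ι]
      refine (hφV j.1).ge ?_
      show ((pr j) ≫ openHom U).left x ∈ Nj hF j.1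
      rw [hpr]
      exact x.2
    let φi : ∀ j : K, openObj (Nj hF j.1) ⟶ openObj (V j.1) := fun j =>
      Over.homMk (IsOpenImmersion.lift (V j.1).ι _ (hrange j)) (by
        show IsOpenImmersion.lift (V j.1).ι _ _ ≫ (V j.1).ι ≫ Y.hom = _
        rw [IsOpenImmersion.lift_fac_assoc, Category.assoc, Over.w φ, Over.w (pr j)])
    have hφi : ∀ j, φi j ≫ g j = pr j ≫ φ := fun j => Over.OverMorphism.ext (IsOpenImmersion.lift_fac _ _ _)
    haveI : ∀ j, IsOpenImmersion (pr j).left := fun j => inferInstanceAs (IsOpenImmersion (X.left.homOfLE (hle j.1 j.2)))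
    have hrg : ∀ j : K, Set.range (pr j).left = φ.left ⁻¹' (V j.1 : Set Y.left) := fun j => by
      rw [show φ.left ⁻¹' (V j.1 : Set Y.left) = U.ι ⁻¹' (Nj hF j.1 : Set X.left) from
        congrArg (fun O : U.toScheme.Opens => (O : Set U.toScheme)) (hφV j.1)]
      refine Set.Subset.antisymm ?_ fun x hx => ⟨⟨U.ι x, hx⟩, Subtype.ext ?_⟩
      · rintro _ ⟨x, rfl⟩
        show ((pr j) ≫ openHom U).left x ∈ Nj hF j.1
        rw [hpr]
        exact x.2
      · show ((pr j) ≫ openHom U).left _ = U.ι x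
        rw [hpr]
        rfl
    have sq : ∀ j, IsPullback (pr j) (φi j) φ (g j) := fun j => by
      refine IsPullback.of_map (Over.forget _) (hφi j).symm ?_
      refine (IsOpenImmersion.isPullback (φi j).left (pr j).left (g j).left φ.left
        (congrArg CommaMorphism.left (hφi j)).symm ?_).flip
      refine TopologicalSpace.Opens.ext ?_
      show φ.left ⁻¹' Set.range (g j).left = Set.range (pr j).left
      rw [show Set.range (g j).left = (V j.1 : Set Y.left) from Scheme.Opens.range_ι _]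
      exact (hrg j).symm
    have hequiv : ∀ j, (ai j).act ≫ pr j = (G ◁ pr j) ≫ aU.act := fun j => by
      rw [← cancel_mono (openHom U), Category.assoc, Category.assoc, hpr, he, hai,
        ← MonoidalCategory.whiskerLeft_comp_assoc, hpr]
    intro X₁ U' _ pr₁ φ₁ g₁ sq₁ a₁ he₁ hi₁
    refine GITAffLib.isGood_of_cover hβ h1 hinv _ _ g (fun y => ?_) pr φi sq ai hequiv (fun j => ?_) sq₁ a₁ he₁ hi₁
    · obtain ⟨j, hj⟩ := hVcov y
      exact ⟨j, ⟨⟨y, hj⟩, rfl⟩⟩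
    haveI : IsAffine (openObj (V j.1)).left := hVaff j.1 j.2
    haveI : IsAffine (openObj (Nj hF j.1)).left := hD.aff j.1 j.2
    have hii : GIT.IsInvariant (ai j) (φi j) := by
      show (ai j).act ≫ φi j = snd G _ ≫ φi j
      rw [← cancel_mono (g j), Category.assoc, Category.assoc, hφi, reassoc_of% hequiv j,
        show aU.act ≫ φ = snd G _ ≫ φ from hinv, whiskerLeft_snd_assoc]
    have hgT : (⊤ : (openObj (V j.1)).left.Opens) = (g j).left ⁻¹ᵁ V j.1 := ((V j.1).ι_preimage_self).symm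
    have bg := GITQuotLib.appLE_bij (g j).left hgT (Scheme.Opens.opensRange_ι _).ge
    have hpT : (⊤ : (openObj (Nj hF j.1)).left.Opens) = (pr j).left ⁻¹ᵁ (φ.left ⁻¹ᵁ V j.1) := by
      refine (top_le_iff.1 fun x _ => ?_).symm
      exact (hrg j).subset ⟨x, rfl⟩
    have bp := GITQuotLib.appLE_bij (pr j).left hpT (fun x hx => (hrg j).symm.subset hx)
    have keyφ : ∀ t, (φi j).left.appTop ((g j).left.appLE (V j.1) ⊤ hgT.le t) =
        (pr j).left.appLE (φ.left ⁻¹ᵁ V j.1) ⊤ hpT.le (φ.left.app (V j.1) t) := by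
      intro t
      rw [Scheme.Hom.appTop, Scheme.Hom.app_eq_appLE, Scheme.Hom.app_eq_appLE]
      exact GITQuotLib.appLE_sq _ _ _ _ (congrArg CommaMorphism.left (hφi j)) _ _ _ _ t
    refine GITAffLib.isGood_of_appTop hβ h1 hii (fun t t' e => ?_) fun s₀ hs₀ => ?_
    · obtain ⟨t, rfl⟩ := bg.2 t
      obtain ⟨t', rfl⟩ := bg.2 t'
      rw [keyφ, keyφ] at e
      exact congrArg _ (ψ.toImage_app_injective ⟨_, hQ j.1 j.2⟩ (bp.1 e))
    let O := Nj hF j.1
    let ι₁ := openHom O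
    have hOT : (⊤ : (openObj O).left.Opens) = ι₁.left ⁻¹ᵁ O := (O.ι_preimage_self).symm
    have bι := GITQuotLib.appLE_bij ι₁.left hOT (Scheme.Opens.opensRange_ι _).ge
    obtain ⟨s, rfl⟩ := bι.2 s₀
    haveI := Groth.Agent.FinHom.isOpenImmersion_whiskerLeft G ι₁
    have hWT : (⊤ : (G ⊗ openObj O).left.Opens) = (G ◁ ι₁).left ⁻¹ᵁ ((snd G X).left ⁻¹ᵁ O) := by
      refine (top_le_iff.1 fun z _ => ?_).symm
      show ((G ◁ ι₁) ≫ snd G X).left z ∈ O
      rw [whiskerLeft_snd]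
      exact ((snd G (openObj O)).left z).2
    have hWr : (snd G X).left ⁻¹ᵁ O ≤ (G ◁ ι₁).left.opensRange := fun p hp => by
      obtain ⟨z, hz⟩ := GITAffLib.exists_whiskerLeft_preimage ι₁ p ⟨_, hp⟩ rfl
      exact ⟨z, hz⟩
    have bW := GITQuotLib.appLE_bij (G ◁ ι₁).left hWT hWr
    have hsinv : IsInvFun (isInvOpen_nv (hF j.1)) s := by
      refine bW.1 ?_
      rw [Scheme.Hom.appTop, Scheme.Hom.appTop, Scheme.Hom.app_eq_appLE, Scheme.Hom.app_eq_appLE] at hs₀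
      have ea : (G ◁ ι₁).left ≫ a.act.left = (ai j).act.left ≫ ι₁.left := (congrArg CommaMorphism.left (hai j)).symm
      have es : (G ◁ ι₁).left ≫ (snd G X).left = (snd G (openObj O)).left ≫ ι₁.left :=
        congrArg CommaMorphism.left (whiskerLeft_snd G ι₁)
      rw [GITQuotLib.appLE_sq _ _ _ _ ea (U := O) (VC := ⊤) (W := ⊤) _ _ hOT.le le_top s,
        GITQuotLib.appLE_sq _ _ _ _ es (U := O) (VC := ⊤) (W := ⊤) _ _ hOT.le le_top s]
      exact hs₀
    have hV' : ⊤ ≤ (pr j ≫ φ).left ⁻¹ᵁ V j.1 := hpT.le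
    let Φ : Γ(Y.left, V j.1) →+* Γ((openObj O).left, ⊤) := ((pr j ≫ φ).left.appLE (V j.1) ⊤ hV').hom
    have hcl : Subring.closure (Set.range (const X O) ∪ Set.range (rat hF j.1)) ≤
        Φ.range.comap (ι₁.left.appLE O ⊤ hOT.le).hom := by
      rw [Subring.closure_le]
      rintro _ (⟨c, rfl⟩ | ⟨l, rfl⟩)
      · exact ⟨const Y (V j.1) c, (appLE_const _ _ _ _ c).trans (appLE_const _ _ _ _ c).symm⟩
      · refine ⟨τ.appLE (Dplus j.1) (V j.1) le_rfl (AmpleThLib.cj j.1 l), ?_⟩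
        show (pr j ≫ φ).left.appLE _ ⊤ hV' _ = _
        rw [← ConcreteCategory.comp_apply, Scheme.Hom.appLE_comp_appLE]
        have hu : ⊤ ≤ ((pr j).left ≫ U.ι) ⁻¹ᵁ O := fun x _ => by
          show ((pr j) ≫ openHom U).left x ∈ O
          rw [hpr]; exact x.2
        have e : (pr j ≫ φ).left ≫ τ = cpt hF ((pr j).left ≫ U.ι) j.1 hu := by
          rw [Over.comp_left, Category.assoc, hφτ]
          exact comp_toP hF K hU _ j.2 hu
        simp only [e]
        rw [cpt_appLE]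
        simp only [show (pr j).left ≫ U.ι = ι₁.left from congrArg CommaMorphism.left (hpr j)]
        rfl
    obtain ⟨t, ht⟩ := hcl (hD.gen j.1 j.2 s hsinv)
    refine ⟨(g j).left.appLE (V j.1) ⊤ hgT.le t, (keyφ t).trans ?_⟩
    refine Eq.trans ?_ ht
    show _ = (pr j ≫ φ).left.appLE (V j.1) ⊤ hV' t
    rw [Scheme.Hom.app_eq_appLE, ← ConcreteCategory.comp_apply, Scheme.Hom.appLE_comp_appLE]
    rfl
  · show IsSeparated (ψ.imageι ≫ P₀.ι ≫ CohB1.ProjSpaceOver.toBase r S₀)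
    infer_instance
  · show LocallyOfFiniteType (ψ.imageι ≫ P₀.ι ≫ CohB1.ProjSpaceOver.toBase r S₀)
    infer_instance
  · let i : Y.left ⟶ CohB1.ProjSpaceOver r S₀ := ψ.imageι ≫ P₀.ι
    haveI : QuasiCompact Y.hom := (HasAffineProperty.iff_of_isAffine (P := @QuasiCompact)).2 inferInstance
    refine ⟨(Scheme.Modules.pullback i).obj (Twist.twistOver r S₀ 1),
      AmpleThLib.isAmple_of_isRelVeryAmplePn Y.hom ?_ ⟨r, i, inferInstance, Category.assoc _ _ _, ⟨Iso.refl _⟩⟩⟩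
    exact AmpleDevLib.isInvertible_pb _ (AmpleDevLib.isInvertible_pb _ (twistProjSpace_isInvertible r))

end GLinShLib

namespace GLinShLib

open CategoryTheory MonoidalCategory CoactBr in
theorem IsUnivGood.hasProps {k : Type u} [Field k] {A : Type u} [CommRing A] [HopfAlgebra k A]
    {G X Y : Over (Spec (CommRingCat.of k))} [GrpObj G] {w : sp k A ⟶ G} [IsMonHom w] [IsIso w] {β : A →ₗ[k] k}
    {a : AlgGrp.Action G X} {φ : X ⟶ Y} (h : IsUnivGood w β a φ) (hβ : ComodLib.IsInvariant β) (h1 : β 1 = 1) :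
    GITAffLib.HasProps a φ :=
  fun _ _ _ _ _ _ sq a₁ he hi => (h sq a₁ he hi).props w hβ h1

end GLinShLib
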