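import Groth.Agent.GLinShLib.Inv
import Groth.Agent.GITAffLib.Stab
import Groth.Agent.GITAffLib.ProperPsi

/-!
# The locus of finite stabilisers
-/

set_option autoImplicit false
set_option backward.isDefEq.respectTransparency false
set_option synthInstance.maxHeartbeats 400000
set_option maxHeartbeats 1000000
set_option linter.style.haveILetI false

universe u

noncomputable section

open CategoryTheory CategoryTheory.Limits MonoidalCategory CartesianMonoidalCategory AlgebraicGeometry Topology
open scoped MonObj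

namespace GLinShLib

section General

variable {S : Scheme.{u}} {G X T : Over S} [GrpObj G] (a : AlgGrp.Action G X)

theorem isPullback_stab (f : T ⟶ X) :
    ∃ t : GLinSh.stab a f ⟶ GLinSh.stab a (𝟙 X),
      IsPullback t (GLinSh.stabTo a f) (GLinSh.stabTo a (𝟙 X)) f.left ∧
        t ≫ pullback.fst _ _ = pullback.fst _ _ ≫ (G ◁ f).left := by
  have h1 := ((IsPullback.of_hasPullback (GIT.psi a f).left (lift f (𝟙 T)).left).flip.paste_vert
    (GITAffLib.isPullback_psi a f).flip).flip
  have e : (lift f (𝟙 T)).left ≫ (X ◁ f).left = f.left ≫ (lift (𝟙 X) (𝟙 X)).left := by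
    rw [← Over.comp_left, ← Over.comp_left]
    congr 1
    refine CartesianMonoidalCategory.hom_ext _ _ ?_ ?_ <;> simp
  rw [e] at h1
  refine ⟨pullback.lift (pullback.fst _ _ ≫ (G ◁ f).left) (GLinSh.stabTo a f ≫ f.left)
    (by rw [h1.w, Category.assoc]; rfl), ?_, pullback.lift_fst _ _ _⟩
  refine IsPullback.of_right ?_ (pullback.lift_snd _ _ _) (IsPullback.of_hasPullback _ _)
  rw [pullback.lift_fst]
  exact h1

/-- The identity section of the stabiliser. -/
def unitSec (f : T ⟶ X) : T.left ⟶ GLinSh.stab a f :=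
  pullback.lift (lift (1 : T ⟶ G) (𝟙 T)).left (𝟙 T.left) (by
    rw [Category.id_comp, ← Over.comp_left]
    congr 1
    rw [GITAffLib.lift_psi, GITAffLib.lift_one_act])

theorem unitSec_stabTo (f : T ⟶ X) : unitSec a f ≫ GLinSh.stabTo a f = 𝟙 T.left :=
  pullback.lift_snd _ _ _

theorem mono_fst (f : T ⟶ X) : Mono (pullback.fst (GIT.psi a f).left (lift f (𝟙 T)).left) := by
  haveI : Mono (lift f (𝟙 T)).left :=
    SplitMono.mono ⟨(snd X T).left, by rw [← Over.comp_left, lift_snd, Over.id_left]⟩
  infer_instance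

/-- Translation by a point of `G` on `G ⊗ T`. -/
def transl (g : T ⟶ G) : G ⊗ T ⟶ G ⊗ T := lift ((snd G T ≫ g) * fst G T) (snd G T)

theorem transl_comp (g g' : T ⟶ G) : transl g ≫ transl g' = transl (g' * g) := by
  refine CartesianMonoidalCategory.hom_ext _ _ ?_ ?_ <;> simp [transl, MonObj.comp_mul, mul_assoc]

theorem transl_one : transl (1 : T ⟶ G) = 𝟙 (G ⊗ T) := by
  refine CartesianMonoidalCategory.hom_ext _ _ ?_ ?_ <;> simp [transl, MonObj.comp_one]

/-- Translations by fixing points preserve the stabiliser. -/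
theorem exists_transl_lift {f : T ⟶ X} (g : GITAffLib.FixPts a f) :
    ∃ τ : GLinSh.stab a f ⟶ GLinSh.stab a f,
      τ ≫ pullback.fst _ _ = pullback.fst _ _ ≫ (transl g.1).left ∧
        τ ≫ GLinSh.stabTo a f = GLinSh.stabTo a f := by
  let σ : X ⊗ T ⟶ X ⊗ T := lift (lift (snd X T ≫ g.1) (fst X T) ≫ a.act) (snd X T)
  have h1 : transl g.1 ≫ GIT.psi a f = GIT.psi a f ≫ σ := by
    refine CartesianMonoidalCategory.hom_ext _ _ ?_ ?_
    · simp only [GIT.psi, σ, transl, Category.assoc, lift_fst, lift_whiskerLeft_assoc, comp_lift_assoc,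
        reassoc_of% (lift_snd ((G ◁ f) ≫ a.act) (snd G T))]
      rw [GITAffLib.lift_mul_act]
      congr 2
    · simp [GIT.psi, σ, transl]
  have h2 : lift f (𝟙 T) ≫ σ = lift f (𝟙 T) := by
    refine CartesianMonoidalCategory.hom_ext _ _ ?_ ?_
    · simp [σ, comp_lift_assoc, g.2]
    · simp [σ]
  refine ⟨pullback.lift (pullback.fst _ _ ≫ (transl g.1).left) (GLinSh.stabTo a f) ?_, pullback.lift_fst _ _ _,
    pullback.lift_snd _ _ _⟩
  rw [Category.assoc, ← Over.comp_left, h1, Over.comp_left, pullback.condition_assoc, ← Over.comp_left, h2]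
  rfl

end General

variable {k : Type u} [Field k] {G X : Over (Spec (CommRingCat.of k))} [GrpObj G] (a : AlgGrp.Action G X)

theorem locallyOfFiniteType_stabTo [LocallyOfFiniteType G.hom] [QuasiCompact G.hom] [QuasiSeparated X.hom]
    {T : Over (Spec (CommRingCat.of k))} (f : T ⟶ X) :
    LocallyOfFiniteType (GLinSh.stabTo a f) ∧ QuasiCompact (GLinSh.stabTo a f) := by
  haveI h1 : LocallyOfFiniteType (snd G T).left := by
    rw [Over.snd_left]; exact MorphismProperty.pullback_snd _ _ inferInstance
  haveI h2 : QuasiCompact (snd G T).left := by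
    rw [Over.snd_left]; exact MorphismProperty.pullback_snd _ _ inferInstance
  haveI : QuasiSeparated (snd X T).left := by
    rw [Over.snd_left]; exact MorphismProperty.pullback_snd _ _ inferInstance
  have hs : (GIT.psi a f).left ≫ (snd X T).left = (snd G T).left := by
    rw [← Over.comp_left, GITAffLib.psi_snd]
  haveI : LocallyOfFiniteType ((GIT.psi a f).left ≫ (snd X T).left) := by rw [hs]; exact h1
  haveI : QuasiCompact ((GIT.psi a f).left ≫ (snd X T).left) := by rw [hs]; exact h2
  haveI : LocallyOfFiniteType (GIT.psi a f).left := locallyOfFiniteType_of_comp _ (snd X T).left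
  haveI : QuasiCompact (GIT.psi a f).left := QuasiCompact.of_comp _ (snd X T).left
  exact ⟨MorphismProperty.pullback_snd _ _ inferInstance, MorphismProperty.pullback_snd _ _ inferInstance⟩

/-- The identity is isolated in the stabiliser of `x`. -/
def finLocus [LocallyOfFiniteType (GLinSh.stabTo a (𝟙 X))] : X.left.Opens :=
  (unitSec a (𝟙 X)) ⁻¹ᵁ (GLinSh.stabTo a (𝟙 X)).quasiFiniteLocus

/-- Finiteness of a geometric stabiliser is isolatedness of the identity in the universal stabiliser. -/
theorem isFinite_stabTo_iff [LocallyOfFiniteType G.hom] [QuasiCompact G.hom] [QuasiSeparated X.hom]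
    [LocallyOfFiniteType (GLinSh.stabTo a (𝟙 X))] {Ω : Type u} [Field Ω] [IsAlgClosed Ω]
    {T : Over (Spec (CommRingCat.of k))} (e : T.left ≅ Spec (CommRingCat.of Ω)) (f : T ⟶ X) (t : T.left) :
    (IsFinite (GLinSh.stabTo a f) ↔ f.left t ∈ finLocus a) ∧
      (IsFinite (GLinSh.stabTo a f) → (GLinSh.stabTo a (𝟙 X) ⁻¹' {f.left t}).Finite) := by
  haveI : IsAffine T.left := IsAffine.of_isIso e.hom
  haveI : Unique T.left := by
    haveI : Subsingleton T.left := (Scheme.homeoOfIso e).injective.subsingleton
    exact uniqueOfSubsingleton t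
  haveI := (locallyOfFiniteType_stabTo a f).1
  haveI := (locallyOfFiniteType_stabTo a f).2
  haveI := (locallyOfFiniteType_stabTo a (𝟙 X)).2
  set q := GLinSh.stabTo a (𝟙 X)
  set qT := GLinSh.stabTo a f
  obtain ⟨r, hr, hr'⟩ := isPullback_stab a f
  have hfib : IsFinite qT → (q ⁻¹' {f.left t}).Finite := by
    intro hfin
    haveI := hfin
    refine ((qT.finite_preimage (s := (Set.univ : Set T.left)) Set.finite_univ).image r).subset fun z hz => ?_
    obtain ⟨w, hw, -⟩ := Scheme.exists_preimage_of_isPullback hr z t (Set.mem_singleton_iff.1 hz)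
    exact ⟨w, Set.mem_univ _, hw⟩
  refine ⟨⟨fun hfin => ?_, fun hmem => ?_⟩, hfib⟩
  · show q.QuasiFiniteAt (unitSec a (𝟙 X) (f.left t))
    set z := unitSec a (𝟙 X) (f.left t)
    have hz : q z = f.left t := by
      rw [← Scheme.Hom.comp_apply, unitSec_stabTo]
      rfl
    have : Finite (q.fiber (q z)) := (q.fiberHomeo (q z)).finite_iff.mpr (by rw [hz]; exact (hfib hfin).to_subtype)
    exact Scheme.Hom.quasiFiniteAt_iff_isOpen_singleton_asFiber.mpr (isOpen_discrete _)
  -- the identity is isolated in the fibre over `t`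
  let O : (GLinSh.stab a f).Opens := r ⁻¹ᵁ q.quasiFiniteLocus
  haveI : LocallyQuasiFinite (O.ι ≫ qT) := by
    have h1 : IsPullback O.ι (r ∣_ q.quasiFiniteLocus) r q.quasiFiniteLocus.ι :=
      (isPullback_morphismRestrict r q.quasiFiniteLocus).flip
    have h2 := h1.flip.paste_vert hr
    exact MorphismProperty.of_isPullback (P := @LocallyQuasiFinite) h2 inferInstance
  let eT := unitSec a f t
  have heO : eT ∈ O := by
    show r (unitSec a f t) ∈ q.quasiFiniteLocus
    have h3 : unitSec a f ≫ r = f.left ≫ unitSec a (𝟙 X) := by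
      apply pullback.hom_ext
      · rw [Category.assoc, Category.assoc, hr', unitSec, unitSec, pullback.lift_fst, pullback.lift_fst_assoc,
          ← Over.comp_left, ← Over.comp_left]
        congr 1
        refine CartesianMonoidalCategory.hom_ext _ _ ?_ ?_ <;> simp [MonObj.comp_one]
      · rw [Category.assoc, Category.assoc]
        show unitSec a f ≫ r ≫ GLinSh.stabTo a (𝟙 X) = f.left ≫ unitSec a (𝟙 X) ≫ GLinSh.stabTo a (𝟙 X)
        rw [hr.w, unitSec_stabTo, reassoc_of% unitSec_stabTo a f, Category.comp_id]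
    rw [← Scheme.Hom.comp_apply, h3]
    exact hmem
  let gT := qT ≫ e.hom
  haveI : LocallyOfFiniteType gT := inferInstance
  haveI : JacobsonSpace (GLinSh.stab a f) := LocallyOfFiniteType.jacobsonSpace gT
  haveI : CompactSpace (GLinSh.stab a f) := QuasiCompact.compactSpace_of_compactSpace qT
  have hiso : IsOpen ({eT} : Set (GLinSh.stab a f)) := by
    haveI : LocallyQuasiFinite (O.ι ≫ qT) := ‹_›
    have hd := (O.ι ≫ qT).isDiscrete_preimage_singleton t
    have hu : ((O.ι ≫ qT) ⁻¹' {t} : Set O) = Set.univ := by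
      exact Set.eq_univ_of_forall fun z => Subsingleton.elim _ _
    rw [hu, isDiscrete_iff_discreteTopology] at hd
    haveI : DiscreteTopology O := (Homeomorph.Set.univ _).discreteTopology
    have := O.ι.isOpenEmbedding.isOpenMap _ (isOpen_discrete ({⟨eT, heO⟩} : Set O))
    rwa [Set.image_singleton] at this
  have hclosedpt : ∀ z ∈ closedPoints (GLinSh.stab a f), IsOpen ({z} : Set (GLinSh.stab a f)) := by
    intro z hz
    let p' := (pointEquivClosedPoint gT).symm ⟨z, hz⟩
    let p : T.left ⟶ GLinSh.stab a f := e.hom ≫ p'.1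
    have hp : p ≫ qT = 𝟙 _ := by
      rw [← cancel_mono e.hom, Category.assoc, Category.assoc, Category.id_comp]
      exact (congrArg (e.hom ≫ ·) p'.2).trans (Category.comp_id _)
    have hpz : p t = z := by
      have h4 : (pointEquivClosedPoint gT p').1 = z := by rw [Equiv.apply_symm_apply]
      rw [← h4]
      show p'.1 (e.hom t) = _
      have : e.hom t = IsLocalRing.closedPoint Ω := Subsingleton.elim _ _
      rw [this]
      rfl
    let m : T ⟶ G ⊗ T := Over.homMk (p ≫ pullback.fst _ _) (by
      rw [← Over.w (GIT.psi a f), Category.assoc, pullback.condition_assoc,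
        show (lift f (𝟙 T)).left ≫ (X ⊗ T).hom = T.hom from Over.w _]
      exact (Category.assoc _ _ _).symm.trans ((congrArg (· ≫ T.hom) hp).trans (Category.id_comp _)))
    have hm : m ≫ GIT.psi a f = lift f (𝟙 T) := Over.OverMorphism.ext (by
      show (p ≫ pullback.fst _ _) ≫ _ = _
      rw [Category.assoc, pullback.condition]
      exact (Category.assoc _ _ _).symm.trans ((congrArg (· ≫ _) hp).trans (Category.id_comp _)))
    have hm2 : m ≫ snd G T = 𝟙 T := by simpa [GIT.psi] using congrArg (· ≫ snd X T) hm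
    have hml : m = lift (m ≫ fst G T) (𝟙 T) := by
      refine CartesianMonoidalCategory.hom_ext _ _ ?_ ?_ <;> simp [hm2]
    let g : GITAffLib.FixPts a f := ⟨m ≫ fst G T, by
      rw [hml, GITAffLib.lift_psi] at hm
      simpa using congrArg (· ≫ fst X T) hm⟩
    obtain ⟨τ, hτ1, hτ2⟩ := exists_transl_lift a g
    let g' : GITAffLib.FixPts a f := ⟨g.1⁻¹, by
      have h6 := GITAffLib.lift_mul_act a g.1⁻¹ g.1 f
      rw [inv_mul_cancel, GITAffLib.lift_one_act, g.2] at h6
      exact h6.symm⟩
    obtain ⟨τ', hτ1', hτ2'⟩ := exists_transl_lift a g'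
    haveI := mono_fst a f
    have hinv : τ ≫ τ' = 𝟙 _ ∧ τ' ≫ τ = 𝟙 _ := by
      constructor <;> rw [← cancel_mono (pullback.fst (GIT.psi a f).left (lift f (𝟙 T)).left)] <;>
        simp only [Category.assoc, hτ1, hτ1', reassoc_of% hτ1, reassoc_of% hτ1', ← Over.comp_left, transl_comp] <;>
        simp [g', transl_one]
    haveI : IsIso τ := ⟨τ', hinv.1, hinv.2⟩
    have hτe : τ eT = z := by
      have h5 : unitSec a f ≫ τ = p := by
        rw [← cancel_mono (pullback.fst (GIT.psi a f).left (lift f (𝟙 T)).left), Category.assoc, hτ1,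
          ← Category.assoc, unitSec, pullback.lift_fst, ← Over.comp_left]
        show _ = m.left
        congr 1
        rw [hml]
        refine CartesianMonoidalCategory.hom_ext _ _ ?_ ?_ <;> simp [transl, g, MonObj.comp_mul]
      show τ (unitSec a f t) = z
      rw [← Scheme.Hom.comp_apply, h5, hpz]
    have := τ.isOpenEmbedding.isOpenMap _ hiso
    rwa [Set.image_singleton, hτe] at this
  have hop : IsOpen (closedPoints (GLinSh.stab a f)) := by
    rw [← Set.biUnion_of_singleton (closedPoints _)]
    exact isOpen_biUnion hclosedpt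
  have huniv : closedPoints (GLinSh.stab a f) = Set.univ := by
    by_contra hne
    obtain ⟨z, hz⟩ := (Set.ne_univ_iff_exists_notMem _).1 hne
    obtain ⟨w, hw, hw'⟩ := nonempty_inter_closedPoints (Z := (closedPoints (GLinSh.stab a f))ᶜ) ⟨z, hz⟩
      hop.isClosed_compl.isLocallyClosed
    exact hw hw'
  haveI : DiscreteTopology (GLinSh.stab a f) :=
    discreteTopology_iff_isOpen_singleton.2 fun z => hclosedpt z (huniv.ge (Set.mem_univ z))
  haveI : Finite (GLinSh.stab a f) := finite_of_compact_of_discrete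
  haveI : LocallyQuasiFinite gT := LocallyQuasiFinite.of_finite_preimage_singleton gT fun x => Set.toFinite _
  haveI : IsFinite gT := IsFinite.of_locallyQuasiFinite gT
  exact (MorphismProperty.cancel_right_of_respectsIso @IsFinite qT e.hom).1 inferInstance

end GLinShLib
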