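import Groth.Agent.GLinShLib.Data
import Groth.Agent.GITAffLib.NormalQuot

/-!
# Saturated opens of the semistable quotient and the stable locus
-/

set_option autoImplicit false
set_option backward.isDefEq.respectTransparency false
set_option synthInstance.maxHeartbeats 400000
set_option maxHeartbeats 1000000
set_option linter.style.haveILetI false

universe u

noncomputable section

open CategoryTheory CategoryTheory.Limits MonoidalCategory CartesianMonoidalCategory AlgebraicGeometry Opposite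
  TopologicalSpace
open CoactBr
open scoped MonObj

namespace GLinShLib

variable {k : Type u} [Field k] {A : Type u} [CommRing A] [HopfAlgebra k A]
  {G X : Over (Spec (CommRingCat.of k))} [GrpObj G] {a : AlgGrp.Action G X} {B : GLinSh.LinBun G a}
  {w : sp k A ⟶ G} [IsMonHom w] [IsIso w] {β : A →ₗ[k] k}

theorem IsUnivGood.comp_iso {Z Y Y' : Over (Spec (CommRingCat.of k))} {aZ : AlgGrp.Action G Z} {φ : Z ⟶ Y}
    (h : IsUnivGood w β aZ φ) (e : Y ≅ Y') : IsUnivGood w β aZ (φ ≫ e.hom) := by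
  intro X₁ U' _ pr₁ φ₁ g₁ sq a₁ he hi
  have h2 : IsPullback pr₁ φ₁ φ (g₁ ≫ e.inv) :=
    sq.of_iso (Iso.refl X₁) (Iso.refl Z) (Iso.refl U') e.symm (by simp) (by simp) (by simp) (by simp)
  exact h h2 a₁ he hi

theorem isClosedAction_restrict' {a : AlgGrp.Action G X} (hcl : GIT.IsClosedAction a)
    {X' : Over (Spec (CommRingCat.of k))} (pr : X' ⟶ X) [IsOpenImmersion pr.left] (a' : AlgGrp.Action G X')
    (he : a'.act ≫ pr = (G ◁ pr) ≫ a.act) : GIT.IsClosedAction a' := by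
  intro Ω _ _ T eT f
  have e : GIT.psi a' f ≫ (pr ▷ T) = GIT.psi a (f ≫ pr) := by
    refine CartesianMonoidalCategory.hom_ext _ _ ?_ ?_
    · simp [GIT.psi, he]
    · simp [GIT.psi]
  have hinj : Function.Injective (pr ▷ T).left := by
    haveI : IsOpenImmersion (pr ▷ T).left := MorphismProperty.of_isPullback
      ((GITAffLib.isPullback_whiskerRight pr T).map (Over.forget _)) ‹IsOpenImmersion pr.left›
    exact (pr ▷ T).left.isOpenEmbedding.injective
  have h := (hcl Ω T eT (f ≫ pr)).preimage (pr ▷ T).left.continuous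
  rw [← e, Over.comp_left, Scheme.Hom.comp_base, TopCat.coe_comp, Set.range_comp] at h
  erw [Set.preimage_image_eq _ hinj] at h
  exact h

/-- Two categorical quotients are isomorphic. -/
theorem exists_iso_of_isCatQuot {Z Y Y' : Over (Spec (CommRingCat.of k))} {aZ : AlgGrp.Action G Z} {φ : Z ⟶ Y}
    {φ' : Z ⟶ Y'} (h : GIT.IsCatQuot aZ φ) (h' : GIT.IsCatQuot aZ φ') : ∃ e : Y ≅ Y', φ ≫ e.hom = φ' := by
  obtain ⟨u, hu, -⟩ := h.2 Y' φ' h'.1
  obtain ⟨v, hv, -⟩ := h'.2 Y φ h.1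
  obtain ⟨_, -, hY⟩ := h.2 Y φ h.1
  obtain ⟨_, -, hY'⟩ := h'.2 Y' φ' h'.1
  refine ⟨⟨u, v, ?_, ?_⟩, hu⟩
  · exact (hY _ (show φ ≫ u ≫ v = φ by rw [← Category.assoc, hu, hv])).trans (hY _ (Category.comp_id φ)).symm
  · exact (hY' _ (show φ' ≫ v ≫ u = φ' by rw [← Category.assoc, hv, hu])).trans (hY' _ (Category.comp_id φ')).symm

variable {U : X.left.Opens} {aU : AlgGrp.Action G (openObj U)} {Y : Over (Spec (CommRingCat.of k))}
  {φ : openObj U ⟶ Y} {r N : ℕ} {F : Fin (r + 1) → Γ(B.V.left, ⊤)} {hF : ∀ j, B.IsInvSection N (F j)}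
  {K : Set (Fin (r + 1))}

/-- The locus of an invariant section is saturated. -/
theorem exists_saturated (hβ : ComodLib.IsInvariant β) (h1 : β 1 = 1) (hN : 1 ≤ N) (hU : U = ⨆ j : K, Nj hF j.1)
    (he : aU.act ≫ openHom U = (G ◁ openHom U) ≫ a.act) (hi : GIT.IsInvariant aU φ) (hgood : IsUnivGood w β aU φ)
    (hch : ∀ j ∈ K, ∃ V : Y.left.Opens, φ.left ⁻¹ᵁ V = U.ι ⁻¹ᵁ Nj hF j) {n : ℕ} {f : Γ(B.V.left, ⊤)}
    (hf : B.IsInvSection n f) : ∃ W : Y.left.Opens, φ.left ⁻¹ᵁ W = U.ι ⁻¹ᵁ nv hf.1 := by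
  have h0 : IsPullback (𝟙 (openObj U)) φ φ (𝟙 Y) := IsPullback.of_horiz_isIso ⟨by simp⟩
  have hsec := (GITAffLib.criterion' (hgood.hasProps hβ h1) h0 aU (by simp) hi).2
  choose V hV using hch
  have key : ∀ j : K, ∃ W : Y.left.Opens, φ.left ⁻¹ᵁ W = U.ι ⁻¹ᵁ (Nj hF j.1 ⊓ nv hf.1) := by
    intro j
    obtain ⟨h, hh⟩ := exists_ratio (hF j.1).1 hf.1
    have hinv := ratio_invariant (hF j.1) hf hh
    let V₀ := V j.1 j.2
    let s : Γ(U.toScheme, φ.left ⁻¹ᵁ V₀) := U.ι.appLE (Nj hF j.1) (φ.left ⁻¹ᵁ V₀) (hV j.1 j.2).le h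
    have hs : GIT.IsInvSection aU φ V₀ s := by
      unfold GIT.IsInvSection
      set O := aU.act.left ⁻¹ᵁ (φ.left ⁻¹ᵁ V₀) ⊓ (snd G (openObj U)).left ⁻¹ᵁ (φ.left ⁻¹ᵁ V₀)
      have hO : O ≤ (G ◁ openHom U).left ⁻¹ᵁ ((snd G X).left ⁻¹ᵁ Nj hF j.1) := fun p hp => by
        show ((G ◁ openHom U) ≫ snd G X).left p ∈ Nj hF j.1
        rw [whiskerLeft_snd]
        exact (hV j.1 j.2).le hp.2
      have e := congrArg ((G ◁ openHom U).left.appLE _ O hO) hinv
      rw [← ConcreteCategory.comp_apply, ← ConcreteCategory.comp_apply, Scheme.Hom.appLE_comp_appLE,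
        Scheme.Hom.appLE_comp_appLE] at e
      simp only [s]
      erw [← ConcreteCategory.comp_apply, ← ConcreteCategory.comp_apply, Scheme.Hom.appLE_comp_appLE,
        Scheme.Hom.appLE_comp_appLE]
      have e1 : (G ◁ openHom U).left ≫ a.act.left = aU.act.left ≫ U.ι := (congrArg CommaMorphism.left he).symm
      have e2 : (G ◁ openHom U).left ≫ (snd G X).left = (snd G (openObj U)).left ≫ U.ι :=
        congrArg CommaMorphism.left (whiskerLeft_snd G (openHom U))
      simp only [e1, e2] at e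
      exact e
    obtain ⟨t, ht⟩ := (hsec V₀).2.ge hs
    refine ⟨Y.left.basicOpen t, ?_⟩
    have hN' : N ≠ 0 := by omega
    rw [Scheme.preimage_basicOpen]
    erw [ht]
    show U.toScheme.basicOpen (U.ι.appLE (Nj hF j.1) (φ.left ⁻¹ᵁ V₀) _ h) = _
    rw [Scheme.basicOpen_appLE, basicOpen_ratio hN' (hF j.1).1 hf.1 hh]
    exact inf_eq_right.2 (fun x hx => (hV j.1 j.2).ge hx.1)
  choose W hW using key
  refine ⟨⨆ j, W j, ?_⟩
  rw [Scheme.Hom.preimage_iSup]
  simp only [hW]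
  rw [← Scheme.Hom.preimage_iSup, ← iSup_inf_eq, ← hU, Scheme.Hom.preimage_inf, Scheme.Opens.ι_preimage_self, top_inf_eq]

/-- The geometric quotient of an invariant open with closed orbits. -/
theorem isUnifGeomQuot_of_closed (hβ : ComodLib.IsInvariant β) (h1 : β 1 = 1)
    (he : aU.act ≫ openHom U = (G ◁ openHom U) ≫ a.act) (hi : GIT.IsInvariant aU φ) [IsAffineHom φ.left]
    (hgood : IsUnivGood w β aU φ) {T Z : Over (Spec (CommRingCat.of k))} {pr : Z ⟶ openObj U} {φs : Z ⟶ T}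
    {g : T ⟶ Y} [IsOpenImmersion g.left] (sq : IsPullback pr φs φ g) (aS : AlgGrp.Action G Z)
    (hea : aS.act ≫ pr = (G ◁ pr) ≫ aU.act)
    (hcl : ∀ y : T.left, ∃ W : T.left.Opens, y ∈ W ∧ ∃ O : X.left.Opens, IsInvOpen a O ∧
      GLinSh.ClosedOrbitsOn a O ∧ ∀ x, φs.left x ∈ W → (pr ≫ openHom U).left x ∈ O) :
    GIT.IsUnifGeomQuot aS φs := by
  haveI : Mono g := (Over.forget _).mono_of_mono_map (inferInstanceAs (Mono g.left))
  haveI : IsOpenImmersion pr.left :=
    MorphismProperty.of_isPullback (sq.map (Over.forget _)).flip ‹IsOpenImmersion g.left›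
  have his : GIT.IsInvariant aS φs := by
    show aS.act ≫ φs = snd G Z ≫ φs
    rw [← cancel_mono g, Category.assoc, Category.assoc, ← sq.w, reassoc_of% hea,
      show aU.act ≫ φ = snd G _ ≫ φ from hi, whiskerLeft_snd_assoc]
  have hmain := (hgood.hasProps hβ h1).main hi
  have hsurjφ : Surjective φ.left := ⟨GITQuotLib.univCat_surjective hmain.1⟩
  have horb : Function.Surjective (GIT.PsiY aS φs his) := by
    intro q
    let y := φs.left (pullback.fst φs.left φs.left q)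
    obtain ⟨W, hyW, O, hO, hclO, hWO⟩ := hcl y
    obtain ⟨V, hV, hyV, hVW⟩ := exists_isAffineOpen_mem_and_subset hyW
    have sq' := GITQuotLib.isPullback_restrict φs V
    obtain ⟨a₁, he₁, hi₁⟩ := GITQuotLib.exists_action his sq'
    haveI : IsAffine (Over.mk (V.ι ≫ T.hom)).left := hV
    let l : Over.mk ((φs.left ⁻¹ᵁ V).ι ≫ Z.hom) ⟶ Z := Over.homMk (φs.left ⁻¹ᵁ V).ι
    have hg₁ := hgood (sq'.paste_horiz sq) a₁ (by rw [reassoc_of% he₁, hea, MonoidalCategory.whiskerLeft_comp_assoc])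
      hi₁
    obtain ⟨aO, haO⟩ := exists_action hO
    have hr : Set.range (l ≫ pr ≫ openHom U).left ⊆ Set.range O.ι := by
      rintro _ ⟨x, rfl⟩
      rw [Scheme.Opens.range_ι]
      exact hWO _ (hVW x.2)
    let m : Over.mk ((φs.left ⁻¹ᵁ V).ι ≫ Z.hom) ⟶ openObj O := Over.homMk (IsOpenImmersion.lift O.ι _ hr) (by
      show IsOpenImmersion.lift O.ι _ hr ≫ O.ι ≫ X.hom = _
      rw [IsOpenImmersion.lift_fac_assoc, Over.w (l ≫ pr ≫ openHom U)])
    have hm : m ≫ openHom O = l ≫ pr ≫ openHom U := Over.OverMorphism.ext (IsOpenImmersion.lift_fac _ _ _)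
    haveI : IsOpenImmersion (l ≫ pr ≫ openHom U).left :=
      inferInstanceAs (IsOpenImmersion ((φs.left ⁻¹ᵁ V).ι ≫ pr.left ≫ U.ι))
    haveI : IsOpenImmersion m.left := by
      haveI : IsOpenImmersion (m.left ≫ (openHom O).left) := by rw [← Over.comp_left, hm]; infer_instance
      exact IsOpenImmersion.of_comp m.left (openHom O).left
    have hma : a₁.act ≫ m = (G ◁ m) ≫ aO.act := by
      rw [← cancel_mono (openHom O), Category.assoc, Category.assoc, hm, haO, reassoc_of% he₁, reassoc_of% hea,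
        he, ← MonoidalCategory.whiskerLeft_comp_assoc (Y := Z), ← MonoidalCategory.whiskerLeft_comp_assoc,
        ← MonoidalCategory.whiskerLeft_comp_assoc, Category.assoc, hm]
    let φ₁ : Over.mk ((φs.left ⁻¹ᵁ V).ι ≫ Z.hom) ⟶ Over.mk (V.ι ≫ T.hom) := Over.homMk (φs.left ∣_ V) (by
      show (φs.left ∣_ V) ≫ V.ι ≫ T.hom = (φs.left ⁻¹ᵁ V).ι ≫ Z.hom
      rw [morphismRestrict_ι_assoc, Over.w φs])
    have hs := GITAffLib.psiY_surjective_of_isClosedAction hβ h1 hg₁ hi₁
      (isClosedAction_restrict' (isClosedAction_of_closedOrbitsOn hclO aO haO) m a₁ hma)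
    let mm : pullback φ₁.left φ₁.left ⟶ pullback φs.left φs.left :=
      pullback.map _ _ _ _ (φs.left ⁻¹ᵁ V).ι (φs.left ⁻¹ᵁ V).ι V.ι (morphismRestrict_ι _ _) (morphismRestrict_ι _ _)
    obtain ⟨z, hz⟩ : q ∈ Set.range mm := by
      rw [Scheme.Pullback.range_map]
      refine ⟨?_, ?_⟩
      · show pullback.fst φs.left φs.left q ∈ Set.range (φs.left ⁻¹ᵁ V).ι
        rw [Scheme.Opens.range_ι]
        exact hyV
      · show pullback.snd φs.left φs.left q ∈ Set.range (φs.left ⁻¹ᵁ V).ι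
        rw [Scheme.Opens.range_ι]
        show φs.left (pullback.snd φs.left φs.left q) ∈ V
        rw [← Scheme.Hom.comp_apply, ← pullback.condition]
        exact hyV
    obtain ⟨p, hp⟩ := hs z
    refine ⟨(G ◁ l).left p, ?_⟩
    rw [← hz, ← hp]
    let L₁ : (G ⊗ Over.mk ((φs.left ⁻¹ᵁ V).ι ≫ Z.hom)).left ⟶ pullback φs.left φs.left :=
      (G ◁ l).left ≫ GIT.PsiY aS φs his
    let L₂ : (G ⊗ Over.mk ((φs.left ⁻¹ᵁ V).ι ≫ Z.hom)).left ⟶ pullback φs.left φs.left :=
      GIT.PsiY a₁ φ₁ hi₁ ≫ mm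
    suffices h : L₁ = L₂ from congrArg (fun (L : _ ⟶ pullback φs.left φs.left) => L p) h
    refine pullback.hom_ext ?_ ?_
    · simp only [L₁, L₂, GIT.PsiY, mm, Category.assoc, pullback.lift_fst, pullback.map]
      rw [pullback.lift_fst_assoc]
      exact (congrArg CommaMorphism.left he₁).symm
    · simp only [L₁, L₂, GIT.PsiY, mm, Category.assoc, pullback.lift_snd, pullback.map]
      rw [pullback.lift_snd_assoc]
      exact congrArg CommaMorphism.left (whiskerLeft_snd G l)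
  have geo : ∀ {X' T' : Over (Spec (CommRingCat.of k))} {pr' : X' ⟶ Z} {φ' : X' ⟶ T'} {g' : T' ⟶ T},
      IsPullback pr' φ' φs g' → ∀ a' : AlgGrp.Action G X', a'.act ≫ pr' = (G ◁ pr') ≫ aS.act →
      GIT.IsInvariant a' φ' → GIT.IsGeomQuot a' φ' := by
    intro X' T' pr' φ' g' sq' a' he' hi'
    have tot := sq'.paste_horiz sq
    have hc := GITAffLib.criterion' (hgood.hasProps hβ h1) tot a'
      (by rw [reassoc_of% he', hea, MonoidalCategory.whiskerLeft_comp_assoc]) hi'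
    refine ⟨hi', ?_, GITQuotLib.psiY_surjective_baseChange his horb sq' a' he' hi', ?_, hc.2⟩
    · have hsj : Surjective φ'.left := MorphismProperty.of_isPullback (P := @Surjective) (tot.map (Over.forget _)) hsurjφ
      exact hsj.surj
    · exact MorphismProperty.of_isPullback (P := MorphismProperty.universally (topologically @Topology.IsQuotientMap))
        (tot.map (Over.forget _)) hmain.2
  exact ⟨geo (IsPullback.of_horiz_isIso (fst := 𝟙 Z) (g := 𝟙 T) ⟨by simp⟩) aS (by simp) his,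
    fun X' T' pr' φ' g' _ sq' a' he' hi' => geo sq' a' he' hi'⟩

end GLinShLib
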